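import Groth.Agent.Lib.EffDesc25.Bridge

/-!
# Descended schemes over the base and base change of effective data
-/

set_option autoImplicit false
set_option backward.isDefEq.respectTransparency false
set_option backward.isDefEq.respectTransparency.types false
universe u

open CategoryTheory CategoryTheory.Limits AlgebraicGeometry

namespace Groth.Agent.EffDesc25

open Groth.Agent.SchDesc12

variable {S S' : Scheme.{u}} {g : S' ⟶ S} {D₀ : Desc.SchDDFam (fun _ : PUnit.{1} => g)}

theorem pullback_lift_snd_eq {X Y Z T : Scheme.{u}} (f : X ⟶ Z) (h : Y ⟶ Z) (v : T ⟶ pullback f h)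
    {x : T ⟶ X} {y : T ⟶ Y} (hx : v ≫ pullback.fst f h = x) (hy : v ≫ pullback.snd f h = y)
    (w : x ≫ f = y ≫ h) : pullback.lift x y w = v :=
  pullback.hom_ext ((pullback.lift_fst _ _ _).trans hx.symm) ((pullback.lift_snd _ _ _).trans hy.symm)

/-- The induced datum of an effective datum is effective. -/
theorem nonempty_iso_baseChange {Z : Scheme.{u}} (p : Z ⟶ S) (U : Over S)
    (e : (Desc.toDDFam (fun _ : PUnit.{1} => g)).obj U ≅ D₀) :
    Nonempty ((Desc.toDDFam (fun _ : PUnit.{1} => pullback.snd g p)).obj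
      (Over.mk (pullback.snd U.hom p)) ≅ pullD D₀ p) := by
  let U' : Over Z := Over.mk (pullback.snd U.hom p)
  let m : pullback (pullback.snd g p) (pullback.snd U.hom p) ⟶
      pullback (pullback.fst g U.hom) (pullback.fst g p) :=
    pullback.lift (pullback.lift (pullback.fst _ _ ≫ pullback.fst g p)
      (pullback.snd _ _ ≫ pullback.fst U.hom p) (by
        simp only [Category.assoc, pullback.condition, pullback.condition_assoc]))
      (pullback.fst _ _) (pullback.lift_fst _ _ _)
  let mi : pullback (pullback.fst g U.hom) (pullback.fst g p) ⟶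
      pullback (pullback.snd g p) (pullback.snd U.hom p) :=
    pullback.lift (pullback.snd _ _) (pullback.lift (pullback.fst _ _ ≫ pullback.snd g U.hom)
      (pullback.snd _ _ ≫ pullback.snd g p) (by
        simp only [Category.assoc, ← pullback.condition, pullback.condition_assoc]))
      (pullback.lift_snd _ _ _).symm
  let a : (Desc.toDDFam (fun _ : PUnit.{1} => pullback.snd g p)).obj U' ⟶
      pullD ((Desc.toDDFam (fun _ : PUnit.{1} => g)).obj U) p :=
    ⟨fun _ => Over.homMk m (pullback.lift_snd _ _ _), fun T i j x₀ x₁ h v w hw => by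
      obtain ⟨⟩ := i
      obtain ⟨⟩ := j
      have key : ∀ (v u : T ⟶ pullback (pullback.snd g p) (pullback.snd U.hom p))
          (_ : v ≫ pullback.fst _ _ = x₀) (_ : u ≫ pullback.fst _ _ = x₁)
          (_ : u ≫ pullback.snd _ _ = v ≫ pullback.snd _ _)
          (w : Desc.Lifts ((pullD ((Desc.toDDFam (fun _ : PUnit.{1} => g)).obj U) p).obj PUnit.unit) x₀)
          (_ : w.1 = v ≫ m),
          ((pullD ((Desc.toDDFam (fun _ : PUnit.{1} => g)).obj U) p).φ (i := PUnit.unit)
            (j := PUnit.unit) x₀ x₁ h w).1 = u ≫ m := by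
        intro v u hv hu₁ hu₂ w hw
        apply pullback.hom_ext
        · have hm₁ : ∀ (c : T ⟶ pullback (pullback.snd g p) (pullback.snd U.hom p)),
              ((c ≫ m) ≫ pullback.fst _ _) ≫ pullback.fst g U.hom =
                (c ≫ pullback.fst _ _) ≫ pullback.fst g p := fun c => by
            simp only [m, Category.assoc, pullback.lift_fst]
          have hm₂ : ∀ (c : T ⟶ pullback (pullback.snd g p) (pullback.snd U.hom p)),
              ((c ≫ m) ≫ pullback.fst _ _) ≫ pullback.snd g U.hom =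
                (c ≫ pullback.snd _ _) ≫ pullback.fst U.hom p := fun c => by
            simp only [m, Category.assoc, pullback.lift_fst, pullback.lift_snd]
          let w₁ : T ⟶ pullback g U.hom := w.1 ≫ pullback.fst _ _
          have hw₁ : w₁ = (v ≫ m) ≫ pullback.fst _ _ := congrArg (· ≫ _) hw
          refine (pullD_φ_fst x₀ x₁ h w ⟨w₁, ?_⟩ rfl).trans ?_
          · show w₁ ≫ pullback.fst g U.hom = _
            rw [hw₁, hm₁, hv]
          apply pullback.hom_ext
          · refine (pullback.lift_fst _ _ _).trans ?_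
            refine Eq.trans ?_ (hm₁ u).symm
            rw [hu₁]
          · refine (pullback.lift_snd _ _ _).trans ?_
            show w₁ ≫ pullback.snd g U.hom = _
            refine Eq.trans ?_ (hm₂ u).symm
            rw [hw₁, hm₂, hu₂]
        · refine (pullback.lift_snd _ _ _).trans ?_
          exact hu₁.symm.trans ((congrArg (u ≫ ·) (pullback.lift_snd _ _ _).symm).trans
            (Category.assoc _ _ _).symm)
      exact key v.1 _ v.2 (pullback.lift_fst _ _ _) (pullback.lift_snd _ _ _) w hw⟩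
  have h₁ : m ≫ mi = 𝟙 _ := by
    apply pullback.hom_ext
    · simp [m, mi]
    · apply pullback.hom_ext
      · simp [m, mi]
      · simp [m, mi, pullback.condition]
  have h₂ : mi ≫ m = 𝟙 _ := by
    apply pullback.hom_ext
    · apply pullback.hom_ext
      · simp [m, mi, pullback.condition]
      · simp [m, mi]
    · simp [m, mi]
  obtain ⟨e₁⟩ := nonempty_iso_of_hom a (fun _ => Over.homMk mi (pullback.lift_fst _ _ _))
    (fun _ => Over.OverMorphism.ext h₁) (fun _ => Over.OverMorphism.ext h₂)
  exact ⟨e₁ ≪≫ (Desc.pullDDFam (f := fun _ : PUnit.{1} => g)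
    (f' := fun _ : PUnit.{1} => pullback.snd g p) (α := id) (p := p)
    (p' := fun _ => pullback.fst g p) (fun _ => pullback.condition)).mapIso e⟩

/-- An effective datum has a descended scheme over any base change. -/
theorem exists_sol_of_effective {Z : Scheme.{u}} (p : Z ⟶ S) (U : Over S)
    (e : (Desc.toDDFam (fun _ : PUnit.{1} => g)).obj U ≅ D₀) :
    ∃ A : Sol (toU D₀) p, Nonempty (Over.mk A.π ≅ Over.mk (pullback.snd U.hom p)) := by
  obtain ⟨e'⟩ := nonempty_iso_baseChange p U e
  exact ⟨solOfIso _ e', ⟨Iso.refl _⟩⟩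

/-- A descended scheme over the base makes the datum effective. -/
theorem nonempty_iso_of_sol_id (A : Sol (toU D₀) (𝟙 S)) :
    Nonempty ((Desc.toDDFam (fun _ : PUnit.{1} => g)).obj (Over.mk A.π) ≅ D₀) := by
  let F : ∀ {T : Scheme.{u}} (x : T ⟶ S') (b : T ⟶ A.U),
      x ≫ g = b ≫ A.π → Desc.Lifts (D₀.obj PUnit.unit) x :=
    fun x b h => A.univ.eval (i := PUnit.unit) b x (by rw [h, Category.comp_id])
  let m : pullback g A.π ⟶ (D₀.obj PUnit.unit).left :=
    (F (pullback.fst g A.π) (pullback.snd g A.π) pullback.condition).1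
  let y₀ : (D₀.obj PUnit.unit).left ⟶ S' := (D₀.obj PUnit.unit).hom
  obtain ⟨b₀, ⟨hb₀, hb₀'⟩, -⟩ := A.bij y₀ (y₀ ≫ g) (Category.comp_id _)
    ⟨𝟙 _, Category.id_comp _⟩
  let mi : (D₀.obj PUnit.unit).left ⟶ pullback g A.π := pullback.lift y₀ b₀ hb₀.symm
  have hF : ∀ {T : Scheme.{u}} (c : T ⟶ pullback g A.π),
      c ≫ m = (F (c ≫ pullback.fst _ _) (c ≫ pullback.snd _ _) (by simp [pullback.condition])).1 :=
    fun c => (A.univ.eval_natural c _ _ _ _ _ rfl rfl _).symm
  have e₀ : b₀ ≫ A.π ≫ 𝟙 S = y₀ ≫ g := by rw [Category.comp_id, hb₀]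
  have hmi : mi ≫ m = 𝟙 _ := by
    rw [hF]
    exact (eval_congr' _ (pullback.lift_snd _ _ _) (pullback.lift_fst _ _ _) _ e₀).trans (hb₀' _)
  have him : m ≫ mi = 𝟙 _ := by
    have hm : m ≫ y₀ = pullback.fst g A.π :=
      (F (pullback.fst g A.π) (pullback.snd g A.π) pullback.condition).2
    apply pullback.hom_ext
    · rw [Category.assoc, pullback.lift_fst, Category.id_comp, hm]
    · rw [Category.assoc, pullback.lift_snd, Category.id_comp]
      obtain ⟨b₁, -, hu₁⟩ := A.bij (pullback.fst g A.π) (pullback.fst g A.π ≫ g)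
        (Category.comp_id _) (F (pullback.fst g A.π) (pullback.snd g A.π) pullback.condition)
      refine (hu₁ _ ⟨?_, fun e => ?_⟩).trans (hu₁ _ ⟨pullback.condition.symm, fun e => rfl⟩).symm
      · rw [Category.assoc, hb₀, ← Category.assoc, hm]
      · rw [A.univ.eval_natural m b₀ y₀ e₀ _ _ rfl hm, hb₀']
        exact Category.comp_id _
  let a : (Desc.toDDFam (fun _ : PUnit.{1} => g)).obj (Over.mk A.π) ⟶ D₀ :=
    ⟨fun _ => Over.homMk m (F _ _ pullback.condition).2, fun T i j x₀ x₁ h v w hw => by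
      obtain ⟨⟩ := i
      obtain ⟨⟩ := j
      have key : ∀ (v u : T ⟶ pullback g A.π) (_ : v ≫ pullback.fst _ _ = x₀)
          (_ : u ≫ pullback.fst _ _ = x₁) (_ : u ≫ pullback.snd _ _ = v ≫ pullback.snd _ _)
          (w : Desc.Lifts (D₀.obj PUnit.unit) x₀) (_ : w.1 = v ≫ m),
          (D₀.φ (i := PUnit.unit) (j := PUnit.unit) x₀ x₁ h w).1 = u ≫ m := by
        intro v u hv hu₁ hu₂ w hw
        have e1 : (v ≫ pullback.snd g A.π) ≫ A.π ≫ 𝟙 S = x₀ ≫ g := by
          rw [Category.comp_id, Category.assoc, ← pullback.condition, reassoc_of% hv]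
        have e2 : (v ≫ pullback.snd g A.π) ≫ A.π ≫ 𝟙 S = x₁ ≫ g := e1.trans h
        rw [hF]
        refine Eq.trans ?_ (eval_congr' A.univ hu₂.symm hu₁.symm e2 _)
        refine (eval_eq_φ A.univ _ _ _ e1 e2 w ?_).symm
        rw [hw, hF]
        exact eval_congr' _ rfl hv _ _
      exact key v.1 _ v.2 (pullback.lift_fst _ _ _) (pullback.lift_snd _ _ _) w hw⟩
  exact nonempty_iso_of_hom a (fun _ => Over.homMk mi (pullback.lift_fst _ _ _))
    (fun _ => Over.OverMorphism.ext him) (fun _ => Over.OverMorphism.ext hmi)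

/-- A representation over the base makes the datum effective. -/
theorem nonempty_iso_of_rep (R : Rep (toU D₀) (𝟙 S)) :
    Nonempty ((Desc.toDDFam (fun _ : PUnit.{1} => g)).obj (Over.mk R.π) ≅ D₀) :=
  nonempty_iso_of_sol_id (solOfRep R)

/-- A representation over `Z` makes the induced datum effective. -/
theorem nonempty_iso_of_rep' {Z : Scheme.{u}} {p : Z ⟶ S} (R : Rep (toU D₀) p) :
    Nonempty ((Desc.toDDFam (fun _ : PUnit.{1} => pullback.snd g p)).obj (Over.mk R.π) ≅
      pullD D₀ p) :=
  nonempty_iso_of_sol (solOfRep R)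

/-- Base change of an effective induced datum. -/
theorem exists_effective_baseChange (hg : SGA1.UnivSubmersive g) {Z Z' : Scheme.{u}} (p : Z ⟶ S)
    (U : Over Z) [Etale U.hom]
    (e : (Desc.toDDFam (fun _ : PUnit.{1} => pullback.snd g p)).obj U ≅ pullD D₀ p)
    (h : Z' ⟶ Z) (p' : Z' ⟶ S) (hp : h ≫ p = p') :
    Nonempty ((Desc.toDDFam (fun _ : PUnit.{1} => pullback.snd g p')).obj
      (Over.mk (pullback.snd U.hom h)) ≅ pullD D₀ p') := by
  haveI : Etale (solOfIso U e).π := ‹Etale U.hom›
  exact nonempty_iso_of_rep' ((((solOfIso U e).toRep hg)).baseChange h hp)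

end Groth.Agent.EffDesc25
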