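import Groth.Agent.Lib.EffDesc25.Sol

/-!
# Descended schemes and isomorphisms of descent data
-/

set_option autoImplicit false
set_option backward.isDefEq.respectTransparency false
set_option backward.isDefEq.respectTransparency.types false
universe w u

open CategoryTheory CategoryTheory.Limits AlgebraicGeometry

namespace Groth.Agent.EffDesc25

open Groth.Agent.SchDesc12

/-- A morphism of descent data whose components are invertible is invertible. -/
theorem nonempty_iso_of_hom {S : Scheme.{u}} {ι : Type w} {X : ι → Scheme.{u}} {f : ∀ i, X i ⟶ S}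
    {D D' : Desc.SchDDFam f} (a : D ⟶ D') (m : ∀ i, D'.obj i ⟶ D.obj i)
    (h₁ : ∀ i, a.hom i ≫ m i = 𝟙 _) (h₂ : ∀ i, m i ≫ a.hom i = 𝟙 _) : Nonempty (D ≅ D') := by
  have e₁ : ∀ i, (a.hom i).left ≫ (m i).left = 𝟙 _ := fun i => congrArg (fun q => q.left) (h₁ i)
  have e₂ : ∀ i, (m i).left ≫ (a.hom i).left = 𝟙 _ := fun i => congrArg (fun q => q.left) (h₂ i)
  refine ⟨{ hom := a, inv := ⟨m, fun T i j x₀ x₁ h v w hw => ?_⟩
            hom_inv_id := Desc.SchDDFam.hom_ext (funext h₁)
            inv_hom_id := Desc.SchDDFam.hom_ext (funext h₂) }⟩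
  have hc := a.comm x₀ x₁ h w v (by rw [hw, Category.assoc, e₂, Category.comp_id])
  rw [hc, Category.assoc, e₁, Category.comp_id]

variable {S S' : Scheme.{u}} {g : S' ⟶ S} {D₀ : Desc.SchDDFam (fun _ : PUnit.{1} => g)}
  {Z : Scheme.{u}} {p : Z ⟶ S}

variable (D₀ p) in
/-- The datum induced over `Z`. -/
noncomputable abbrev pullD : Desc.SchDDFam (fun _ : PUnit.{1} => pullback.snd g p) :=
  (Desc.pullDDFam (f := fun _ : PUnit.{1} => g) (f' := fun _ : PUnit.{1} => pullback.snd g p)
    (α := id) (p := p) (p' := fun _ => pullback.fst g p) (fun _ => pullback.condition)).obj D₀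

theorem φ_val_congr {T : Scheme.{u}} {x₀ x₁ z₀ z₁ : T ⟶ S'} (e₀ : z₀ = x₀) (e₁ : z₁ = x₁)
    (hz : z₀ ≫ g = z₁ ≫ g) (hx : x₀ ≫ g = x₁ ≫ g) (v : Desc.Lifts (D₀.obj PUnit.unit) z₀)
    (w : Desc.Lifts (D₀.obj PUnit.unit) x₀) (h : v.1 = w.1) :
    (D₀.φ (i := PUnit.unit) (j := PUnit.unit) z₀ z₁ hz v).1 =
      (D₀.φ (i := PUnit.unit) (j := PUnit.unit) x₀ x₁ hx w).1 := by
  subst e₀ e₁
  rw [Subtype.ext h]

theorem compat' {T : Scheme.{u}} {y₀ y₁ : T ⟶ pullback g p}
    (h : y₀ ≫ pullback.snd g p = y₁ ≫ pullback.snd g p) :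
    (y₀ ≫ pullback.fst g p) ≫ g = (y₁ ≫ pullback.fst g p) ≫ g := by
  rw [Category.assoc, pullback.condition, ← Category.assoc, h, Category.assoc, ← pullback.condition,
    Category.assoc]

theorem pullD_φ_fst {T : Scheme.{u}} (y₀ y₁ : T ⟶ pullback g p)
    (h : y₀ ≫ pullback.snd g p = y₁ ≫ pullback.snd g p)
    (v : Desc.Lifts ((pullD D₀ p).obj PUnit.unit) y₀)
    (w : Desc.Lifts (D₀.obj PUnit.unit) (y₀ ≫ pullback.fst g p)) (hw : w.1 = v.1 ≫ pullback.fst _ _) :
    ((pullD D₀ p).φ (i := PUnit.unit) (j := PUnit.unit) y₀ y₁ h v).1 ≫ pullback.fst _ _ =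
      (D₀.φ (i := PUnit.unit) (j := PUnit.unit) (y₀ ≫ pullback.fst g p) (y₁ ≫ pullback.fst g p)
        (compat' h) w).1 :=
  (pullback.lift_fst _ _ _).trans (φ_val_congr rfl rfl _ _ _ w hw.symm)

section

variable (U : Over Z) (e : (Desc.toDDFam (fun _ : PUnit.{1} => pullback.snd g p)).obj U ≅ pullD D₀ p)

/-- The component of the isomorphism. -/
noncomputable def eMor : pullback (pullback.snd g p) U.hom ⟶
    pullback (D₀.obj PUnit.unit).hom (pullback.fst g p) :=
  (e.hom.hom PUnit.unit).left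

/-- The component of the inverse. -/
noncomputable def eInv : pullback (D₀.obj PUnit.unit).hom (pullback.fst g p) ⟶
    pullback (pullback.snd g p) U.hom :=
  (e.inv.hom PUnit.unit).left

theorem eMor_snd : eMor U e ≫ pullback.snd _ _ = pullback.fst (pullback.snd g p) U.hom :=
  Over.w (e.hom.hom PUnit.unit)

theorem eMor_eInv : eMor U e ≫ eInv U e = 𝟙 _ :=
  congrArg (fun q => (q.hom PUnit.unit).left) e.hom_inv_id

theorem eInv_eMor : eInv U e ≫ eMor U e = 𝟙 _ :=
  congrArg (fun q => (q.hom PUnit.unit).left) e.inv_hom_id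

theorem eInv_fst : eInv U e ≫ pullback.fst _ _ =
    pullback.snd (D₀.obj PUnit.unit).hom (pullback.fst g p) :=
  Over.w (e.inv.hom PUnit.unit)

theorem eMor_comm {T : Scheme.{u}} (y₀ y₁ : T ⟶ pullback g p) (a : T ⟶ U.left)
    (h₀ : y₀ ≫ pullback.snd g p = a ≫ U.hom) (h₁ : y₁ ≫ pullback.snd g p = a ≫ U.hom)
    (w : Desc.Lifts (D₀.obj PUnit.unit) (y₀ ≫ pullback.fst g p))
    (hw : w.1 = (pullback.lift y₀ a h₀ ≫ eMor U e) ≫ pullback.fst _ _) :
    (D₀.φ (i := PUnit.unit) (j := PUnit.unit) (y₀ ≫ pullback.fst g p) (y₁ ≫ pullback.fst g p)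
        (compat' (h₀.trans h₁.symm)) w).1 =
      (pullback.lift y₁ a h₁ ≫ eMor U e) ≫ pullback.fst _ _ := by
  let v : Desc.Lifts (((Desc.toDDFam (fun _ : PUnit.{1} => pullback.snd g p)).obj U).obj
      PUnit.unit) y₀ := ⟨pullback.lift y₀ a h₀, pullback.lift_fst _ _ _⟩
  have hc : ((pullD D₀ p).φ (i := PUnit.unit) (j := PUnit.unit) y₀ y₁ (h₀.trans h₁.symm)
      (e.hom.push v)).1 =
      (((Desc.toDDFam (fun _ : PUnit.{1} => pullback.snd g p)).obj U).φ (i := PUnit.unit)
        (j := PUnit.unit) y₀ y₁ (h₀.trans h₁.symm) v).1 ≫ eMor U e :=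
    e.hom.comm (i := PUnit.unit) (j := PUnit.unit) y₀ y₁ (h₀.trans h₁.symm) v (e.hom.push v) rfl
  have hcan : (((Desc.toDDFam (fun _ : PUnit.{1} => pullback.snd g p)).obj U).φ
      (i := PUnit.unit) (j := PUnit.unit) y₀ y₁ (h₀.trans h₁.symm) v).1 = pullback.lift y₁ a h₁ :=
    pullback.hom_ext ((pullback.lift_fst _ _ _).trans (pullback.lift_fst _ _ _).symm)
      ((pullback.lift_snd _ _ _).trans ((pullback.lift_snd _ _ _).trans (pullback.lift_snd _ _ _).symm))
  rw [← hcan, ← pullD_φ_fst y₀ y₁ (h₀.trans h₁.symm) (e.hom.push v) w (hw.trans rfl)]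
  exact congrArg (fun m => m ≫ pullback.fst _ _) hc

/-- An isomorphism of induced data gives a descended scheme. -/
noncomputable def solOfIso : Sol (toU D₀) p where
  U := U.left
  π := U.hom
  univ := Sec.mk'
    (fun T i a x h => ⟨(pullback.lift (pullback.lift x (a ≫ U.hom) (by rw [Category.assoc, h])) a
        (pullback.lift_snd _ _ _) ≫ eMor U e) ≫ pullback.fst _ _, by
      obtain ⟨⟩ := i
      show ((_ ≫ _) ≫ _) ≫ (D₀.obj PUnit.unit).hom = x
      simp only [Category.assoc, pullback.condition, reassoc_of% eMor_snd U e, pullback.lift_fst,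
        pullback.lift_fst_assoc]⟩)
    (fun T T' i c a x h h' => by
      show (pullback.lift _ (c ≫ a) _ ≫ _) ≫ _ = c ≫ (_ ≫ _) ≫ _
      simp only [← Category.assoc]
      congr 2
      apply pullback.hom_ext
      · refine (pullback.lift_fst _ _ _).trans (Eq.trans ?_ (Category.assoc _ _ _).symm)
        refine Eq.trans ?_ (congrArg (c ≫ ·) (pullback.lift_fst _ _ _).symm)
        apply pullback.hom_ext <;> simp
      · simp)
    (fun T i j a x₀ x₁ h₀ h₁ => by
      apply Subtype.ext
      obtain ⟨⟩ := i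
      obtain ⟨⟩ := j
      let y₀ : T ⟶ pullback g p := pullback.lift x₀ (a ≫ U.hom) (by rw [Category.assoc, h₀])
      let y₁ : T ⟶ pullback g p := pullback.lift x₁ (a ≫ U.hom) (by rw [Category.assoc, h₁])
      have hc := eMor_comm U e y₀ y₁ a (pullback.lift_snd _ _ _) (pullback.lift_snd _ _ _)
        ⟨(pullback.lift y₀ a (pullback.lift_snd _ _ _) ≫ eMor U e) ≫ pullback.fst _ _, by
          simp only [Category.assoc, pullback.condition, reassoc_of% eMor_snd U e,
            pullback.lift_fst_assoc]⟩ rfl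
      refine Eq.trans ?_ hc
      exact φ_val_congr (pullback.lift_fst _ _ _).symm (pullback.lift_fst _ _ _).symm _ _ _ _ rfl)
  bij T x z hz v := by
    let y : T ⟶ pullback g p := pullback.lift x z hz.symm
    let v' : T ⟶ pullback (D₀.obj PUnit.unit).hom (pullback.fst g p) :=
      pullback.lift v.1 y (v.2.trans (pullback.lift_fst _ _ _).symm)
    let b₀ := (v' ≫ eInv U e) ≫ pullback.snd _ _
    have hf : (v' ≫ eInv U e) ≫ pullback.fst _ _ = y := by
      rw [Category.assoc, eInv_fst, pullback.lift_snd]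
    have hval : ∀ (b : T ⟶ U.left) (hb : b ≫ U.hom = z) (h : b ≫ U.hom ≫ p = x ≫ g),
        ((pullback.lift (pullback.lift x (b ≫ U.hom) (by rw [Category.assoc, h])) b
          (pullback.lift_snd _ _ _) : T ⟶ pullback (pullback.snd g p) U.hom)) =
          pullback.lift y b (by rw [pullback.lift_snd, hb]) := by
      intro b hb h
      apply pullback.hom_ext
      · simp only [pullback.lift_fst, y]
        congr 1
      · simp only [pullback.lift_snd]
    have hb₀ : b₀ ≫ U.hom = z := by
      rw [Category.assoc, ← pullback.condition, ← Category.assoc, hf]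
      exact pullback.lift_snd _ _ _
    refine ⟨b₀, ⟨hb₀, fun h => ?_⟩, fun b ⟨hbπ, hbv⟩ => ?_⟩
    · refine (congrArg Subtype.val (Sec.eval_mk' _ _ _ _ _ _ _)).trans ?_
      show (_ ≫ eMor U e) ≫ _ = v.1
      rw [hval b₀ hb₀ h]
      have : pullback.lift y b₀ (by rw [pullback.lift_snd, hb₀]) = v' ≫ eInv U e := by
        apply pullback.hom_ext
        · rw [pullback.lift_fst, hf]
        · rw [pullback.lift_snd]
      rw [this, Category.assoc v', eInv_eMor, Category.comp_id]
      exact pullback.lift_fst _ _ _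
    · have h : b ≫ U.hom ≫ p = x ≫ g := by rw [reassoc_of% hbπ, hz]
      have h1 := (congrArg Subtype.val (Sec.eval_mk' _ _ _ _ _ _ _)).symm.trans (hbv h)
      replace h1 : ((pullback.lift y b (by rw [pullback.lift_snd, hbπ]) :
          T ⟶ pullback (pullback.snd g p) U.hom) ≫ eMor U e) ≫ pullback.fst _ _ = v.1 := by
        rw [← hval b hbπ h]; exact h1
      have : (pullback.lift y b (by rw [pullback.lift_snd, hbπ]) :
          T ⟶ pullback (pullback.snd g p) U.hom) ≫ eMor U e = v' := by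
        apply pullback.hom_ext
        · exact h1.trans (pullback.lift_fst _ _ _).symm
        · rw [Category.assoc, eMor_snd, pullback.lift_fst]
          exact (pullback.lift_snd _ _ _).symm
      show b = (v' ≫ eInv U e) ≫ pullback.snd _ _
      rw [← this, Category.assoc _ (eMor U e), eMor_eInv, Category.comp_id, pullback.lift_snd]

theorem solOfIso_π : (solOfIso U e).π = U.hom := rfl

end

/-- A descended scheme gives an isomorphism of induced data. -/
theorem nonempty_iso_of_sol (A : Sol (toU D₀) p) :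
    Nonempty ((Desc.toDDFam (fun _ : PUnit.{1} => pullback.snd g p)).obj (Over.mk A.π) ≅
      pullD D₀ p) := by
  let F : ∀ {T : Scheme.{u}} (y : T ⟶ pullback g p) (b : T ⟶ A.U),
      y ≫ pullback.snd g p = b ≫ A.π → Desc.Lifts (D₀.obj PUnit.unit) (y ≫ pullback.fst g p) :=
    fun y b h => A.univ.eval (i := PUnit.unit) b (y ≫ pullback.fst g p) (by
      rw [← Category.assoc, ← h, Category.assoc, ← pullback.condition, Category.assoc])
  let m : pullback (pullback.snd g p) A.π ⟶
      pullback (D₀.obj PUnit.unit).hom (pullback.fst g p) :=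
    pullback.lift (F (pullback.fst _ A.π) (pullback.snd _ A.π) pullback.condition).1
      (pullback.fst _ A.π) (F _ _ pullback.condition).2
  let y₀ := pullback.snd (D₀.obj PUnit.unit).hom (pullback.fst g p)
  obtain ⟨b₀, ⟨hb₀, hb₀'⟩, -⟩ := A.bij (y₀ ≫ pullback.fst g p) (y₀ ≫ pullback.snd g p)
    (by rw [Category.assoc, ← pullback.condition, Category.assoc])
    ⟨pullback.fst _ _, pullback.condition⟩
  let mi : pullback (D₀.obj PUnit.unit).hom (pullback.fst g p) ⟶ pullback (pullback.snd g p) A.π :=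
    pullback.lift y₀ b₀ hb₀.symm
  have hF : ∀ {T : Scheme.{u}} (c : T ⟶ pullback (pullback.snd g p) A.π),
      (c ≫ m) ≫ pullback.fst _ _ =
        (F (c ≫ pullback.fst _ _) (c ≫ pullback.snd _ _) (by simp [pullback.condition])).1 := by
    intro T c
    rw [Category.assoc, pullback.lift_fst]
    exact (A.univ.eval_natural c _ _ _ _ _ rfl (Category.assoc _ _ _).symm _).symm
  have e₀ : b₀ ≫ A.π ≫ p = (y₀ ≫ pullback.fst g p) ≫ g := by
    rw [← Category.assoc b₀, hb₀, Category.assoc, ← pullback.condition, Category.assoc]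
  have hmi : mi ≫ m = 𝟙 _ := by
    apply pullback.hom_ext
    · rw [hF, Category.id_comp]
      exact (eval_congr' _ (pullback.lift_snd _ _ _) (congrArg (· ≫ _) (pullback.lift_fst _ _ _)) _
        e₀).trans (hb₀' _)
    · rw [Category.assoc, pullback.lift_snd, pullback.lift_fst, Category.id_comp]
  have him : m ≫ mi = 𝟙 _ := by
    apply pullback.hom_ext
    · rw [Category.assoc, pullback.lift_fst, pullback.lift_snd, Category.id_comp]
    · rw [Category.assoc, pullback.lift_snd, Category.id_comp]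
      let yc := pullback.fst (pullback.snd g p) A.π
      have hz : (yc ≫ pullback.snd g p) ≫ p = (yc ≫ pullback.fst g p) ≫ g := by
        rw [Category.assoc, ← pullback.condition, Category.assoc]
      obtain ⟨b₁, -, hu₁⟩ := A.bij (yc ≫ pullback.fst g p) (yc ≫ pullback.snd g p) hz
        (F yc (pullback.snd _ A.π) pullback.condition)
      refine (hu₁ _ ⟨?_, fun e => ?_⟩).trans (hu₁ _ ⟨pullback.condition.symm, fun e => rfl⟩).symm
      · rw [Category.assoc, hb₀, ← Category.assoc, pullback.lift_snd]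
      · have hx : m ≫ y₀ ≫ pullback.fst g p = yc ≫ pullback.fst g p := by
          rw [← Category.assoc, pullback.lift_snd]
        rw [A.univ.eval_natural m b₀ (y₀ ≫ pullback.fst g p) e₀ _ _ rfl hx, hb₀']
        exact pullback.lift_fst _ _ _
  let a : (Desc.toDDFam (fun _ : PUnit.{1} => pullback.snd g p)).obj (Over.mk A.π) ⟶ pullD D₀ p :=
    ⟨fun _ => Over.homMk m (pullback.lift_snd _ _ _), fun T i j x₀ x₁ h v w hw => by
      obtain ⟨⟩ := i
      obtain ⟨⟩ := j
      have key : ∀ (v u : T ⟶ pullback (pullback.snd g p) A.π) (_ : v ≫ pullback.fst _ _ = x₀)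
          (_ : u ≫ pullback.fst _ _ = x₁) (_ : u ≫ pullback.snd _ _ = v ≫ pullback.snd _ _)
          (w : Desc.Lifts ((pullD D₀ p).obj PUnit.unit) x₀) (_ : w.1 = v ≫ m),
          ((pullD D₀ p).φ (i := PUnit.unit) (j := PUnit.unit) x₀ x₁ h w).1 = u ≫ m := by
        intro v u hv hu₁ hu₂ w hw
        apply pullback.hom_ext
        · rw [hF]
          have e1 : (v ≫ pullback.snd _ A.π) ≫ A.π ≫ p = (x₀ ≫ pullback.fst g p) ≫ g := by
            rw [Category.assoc, ← pullback.condition_assoc, reassoc_of% hv, ← pullback.condition,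
              Category.assoc]
          have e2 : (v ≫ pullback.snd _ A.π) ≫ A.π ≫ p = (x₁ ≫ pullback.fst g p) ≫ g := by
            rw [e1]
            exact compat' h
          let w' : Desc.Lifts (D₀.obj PUnit.unit) (x₀ ≫ pullback.fst g p) :=
            A.univ.eval (i := PUnit.unit) (v ≫ pullback.snd _ A.π) (x₀ ≫ pullback.fst g p) e1
          rw [pullD_φ_fst x₀ x₁ h w w' (by
            rw [hw, hF]
            exact (eval_congr' _ rfl (congrArg (· ≫ pullback.fst g p) hv) _ _).symm)]
          refine Eq.trans ?_ (eval_congr' A.univ hu₂.symm (congrArg (· ≫ pullback.fst g p) hu₁.symm) e2 _)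
          exact (eval_eq_φ A.univ _ _ _ e1 e2 _ rfl).symm
        · refine (pullback.lift_snd _ _ _).trans ?_
          rw [Category.assoc, pullback.lift_snd, hu₁]
      exact key v.1 _ v.2 (pullback.lift_fst _ _ _) (pullback.lift_snd _ _ _) w hw⟩
  exact nonempty_iso_of_hom a (fun _ => Over.homMk mi (pullback.lift_fst _ _ _))
    (fun _ => Over.OverMorphism.ext him) (fun _ => Over.OverMorphism.ext hmi)

end Groth.Agent.EffDesc25
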