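import Groth.Agent.Lib.SchDesc12.LQF
import Groth.Agent.Lib.FpqcDesc.Basic

/-!
# fpqc descent of representations
-/

set_option autoImplicit false
universe u

open AlgebraicGeometry CategoryTheory CategoryTheory.Limits

namespace Groth.Agent.EffDesc25

open Groth.Agent.SchDesc12

/-- Representations over the same morphism are isomorphic. -/
theorem rep_exists_iso {S : Scheme.{u}} {ι : Type u} {X : ι → Scheme.{u}} {f : ∀ i, X i ⟶ S}
    {D : Desc.SchDDFam f} {Z : Scheme.{u}} {p : Z ⟶ S} (R R' : Rep D p) :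
    ∃ b : R.U ⟶ R'.U, IsIso b ∧ b ≫ R'.π = R.π := by
  obtain ⟨b, hb, hb'⟩ := R'.exists_lift R.π R.univ
  obtain ⟨c, hc, hc'⟩ := R.exists_lift R'.π R'.univ
  refine ⟨b, ⟨c, R.hom_ext _ _ ?_ fun T i a x e e' => ?_, R'.hom_ext _ _ ?_ fun T i a x e e' => ?_⟩, hb⟩
  · rw [Category.assoc, hc, hb, Category.id_comp]
  · have e₁ : (a ≫ b) ≫ R'.π ≫ p = x ≫ f i := by rw [← e, Category.assoc, Category.assoc, Category.assoc, reassoc_of% hb, reassoc_of% hc, reassoc_of% hb]
    have e₂ : a ≫ R.π ≫ p = x ≫ f i := by rw [← e', Category.comp_id]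
    refine (R.univ.eval_congr (Category.assoc _ _ _).symm rfl _ (by rw [← e]; simp only [Category.assoc])).trans ?_
    refine (hc' i (a ≫ b) x e₁ (by rw [← e]; simp only [Category.assoc])).trans ?_
    exact (hb' i a x e₂ e₁).trans (R.univ.eval_congr (Category.comp_id a).symm rfl _ _)
  · rw [Category.assoc, hb, hc, Category.id_comp]
  · have e₁ : (a ≫ c) ≫ R.π ≫ p = x ≫ f i := by rw [← e, Category.assoc, Category.assoc, Category.assoc, reassoc_of% hc, reassoc_of% hb, reassoc_of% hc]
    have e₂ : a ≫ R'.π ≫ p = x ≫ f i := by rw [← e', Category.comp_id]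
    refine (R'.univ.eval_congr (Category.assoc _ _ _).symm rfl _ (by rw [← e]; simp only [Category.assoc])).trans ?_
    refine (hb' i (a ≫ c) x e₁ (by rw [← e]; simp only [Category.assoc])).trans ?_
    exact (hc' i a x e₂ e₁).trans (R'.univ.eval_congr (Category.comp_id a).symm rfl _ _)

/-- Etale separated quasi-compact representations descend along fpqc morphisms. -/
theorem exists_rep_descend {S Z Z₁ : Scheme.{u}} {ι : Type u} {X : ι → Scheme.{u}} {f : ∀ i, X i ⟶ S}
    {D : Desc.SchDDFam f} (p : Z₁ ⟶ Z) (q : Z ⟶ S) [Flat p] [Surjective p] [QuasiCompact p] (R : Rep D (p ≫ q))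
    (h₁ : Etale R.π) (h₂ : IsSeparated R.π) (h₃ : QuasiCompact R.π) :
    ∃ R₀ : Rep D q, Etale R₀.π ∧ IsSeparated R₀.π ∧ QuasiCompact R₀.π := by
  let R' := R
  have e₁ : Etale R'.π := h₁
  have e₂ : IsSeparated R'.π := h₂
  have e₃ : QuasiCompact R'.π := h₃
  have := locallyQuasiFinite_of_etale R'.π
  obtain ⟨R₀⟩ := nonempty_rep_descend p R' (single_mem_fpqc p)
    (isEffective_of_isQuasiAffine (single_mem_fpqc p) fun _ => mor2_isQuasiAffine_of_lqf R'.π)
  obtain ⟨b, hb, hbπ⟩ := rep_exists_iso (R₀.baseChange p rfl) R'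
  have h : ∀ P : MorphismProperty Scheme.{u}, P.RespectsIso → P R'.π →
      P (pullback.snd R₀.π p) := fun P _ hP => by
    rw [show pullback.snd R₀.π p = b ≫ R'.π from hbπ.symm]
    exact (@MorphismProperty.cancel_left_of_respectsIso _ _ P _ _ _ _ b R'.π hb).2 hP
  have hQ : (@Surjective ⊓ @Flat ⊓ @QuasiCompact : MorphismProperty Scheme.{u}) p :=
    ⟨⟨inferInstance, inferInstance⟩, inferInstance⟩
  have := Groth.Agent.FpqcDesc.descendsAlong_quasiCompact.{u}
  have := Groth.Agent.FpqcDesc.descendsAlong_isSeparated.{u}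
  exact ⟨R₀, MorphismProperty.of_pullback_snd_of_descendsAlong (P := @Etale) hQ
      (h _ (MorphismProperty.IsStableUnderBaseChange.respectsIso) e₁),
    MorphismProperty.of_pullback_snd_of_descendsAlong (P := @IsSeparated) hQ
      (h _ (MorphismProperty.IsStableUnderBaseChange.respectsIso) e₂),
    MorphismProperty.of_pullback_snd_of_descendsAlong (P := @QuasiCompact) hQ
      (h _ (MorphismProperty.IsStableUnderBaseChange.respectsIso) e₃)⟩

end Groth.Agent.EffDesc25
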