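import Groth.Agent.Lib.EffDesc25.Sol

/-!
# Gluing descended schemes over an open cover of the base
-/

set_option autoImplicit false
set_option backward.isDefEq.respectTransparency false
set_option backward.isDefEq.respectTransparency.types false
universe u

open CategoryTheory CategoryTheory.Limits AlgebraicGeometry Opposite TopologicalSpace

namespace Groth.Agent.EffDesc25

open Groth.Agent.SchDesc12

variable {S : Scheme.{u}} {ι : Type u} {X : ι → Scheme.{u}} {f : ∀ i, X i ⟶ S}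
  {D : Desc.SchDDFam f} {Z : Scheme.{u}} {p : Z ⟶ S}

/-- The points of a representation are points of the datum. -/
noncomputable def repToPresheaf (R : Rep D p) : yoneda.obj R.U ⟶ presheaf D where
  app T := TypeCat.ofHom fun b => (⟨b ≫ R.π ≫ p, R.univ.pull b rfl⟩ : Pt D T.unop)
  naturality {T T'} c := by
    apply ConcreteCategory.hom_ext
    intro b
    show (⟨_, _⟩ : Pt D T'.unop) = ⟨_, _⟩
    refine Pt.ext' (Category.assoc _ _ _) fun T₀ i a x e => ?_
    refine (congrArg Subtype.val (Sec.eval_pull _ _ rfl _ _ _)).trans ?_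
    refine Eq.trans ?_ (congrArg Subtype.val (Sec.eval_pull _ _ rfl _ _ _)).symm
    refine Eq.trans ?_ (congrArg Subtype.val (Sec.eval_pull _ _ rfl _ _ _)).symm
    exact R.univ.eval_congr (Category.assoc _ _ _).symm rfl _ _

theorem repToPresheaf_eq_iff (R : Rep D p) {T : Scheme.{u}} (b : T ⟶ R.U) (P : Pt D T) :
    (⟨b ≫ R.π ≫ p, R.univ.pull b rfl⟩ : Pt D T) = P ↔
      b ≫ R.π ≫ p = P.1 ∧ ∀ ⦃T' : Scheme.{u}⦄ (i : ι) (a : T' ⟶ T) (x : T' ⟶ X i)
        (e : (a ≫ b) ≫ R.π ≫ p = x ≫ f i) (e' : a ≫ P.1 = x ≫ f i),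
        (R.univ.eval (a ≫ b) x e).1 = (P.2.eval a x e').1 := by
  constructor
  · rintro rfl
    exact ⟨rfl, fun T' i a x e e' => (congrArg Subtype.val (Sec.eval_pull _ _ rfl _ _ _)).symm⟩
  · rintro ⟨h₁, h₂⟩
    refine Pt.ext' h₁ fun T' i a x e => ?_
    exact (congrArg Subtype.val (Sec.eval_pull _ _ rfl _ _ _)).trans (h₂ i a x _ _)

/-- A point over the base of a representation comes from it, uniquely. -/
theorem existsUnique_rep (R : Rep D p) [Mono p] {T : Scheme.{u}} (P : Pt D T) (z : T ⟶ Z)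
    (hz : z ≫ p = P.1) :
    ∃! b : T ⟶ R.U, (⟨b ≫ R.π ≫ p, R.univ.pull b rfl⟩ : Pt D T) = P := by
  obtain ⟨b, hb₁, hb₂⟩ := R.exists_lift z (P.2.pull (𝟙 T) (t' := z ≫ p) (by rw [Category.id_comp, hz]))
  refine ⟨b, (repToPresheaf_eq_iff R b P).2 ⟨by rw [reassoc_of% hb₁, hz], fun T' i a x e e' => ?_⟩,
    fun b' hb' => ?_⟩
  · refine (hb₂ i a x (by rw [hz, e']) e).trans ?_
    exact (congrArg Subtype.val (Sec.eval_pull _ _ _ _ _ _)).trans
      (P.2.eval_congr (Category.comp_id a) rfl _ _)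
  · obtain ⟨h₁, h₂⟩ := (repToPresheaf_eq_iff R b' P).1 hb'
    have hπ : b' ≫ R.π = b ≫ R.π := by
      rw [← cancel_mono p, Category.assoc, h₁, hb₁, hz]
    refine R.hom_ext b' b hπ fun T' i a x e e' => ?_
    have e'' : a ≫ P.1 = x ≫ f i := by rw [← h₁, ← Category.assoc, e]
    rw [h₂ i a x e e'', hb₂ i a x (by rw [hz, e'']) e', Sec.eval_pull]
    exact (P.2.eval_congr (Category.comp_id a) rfl _ _).symm

theorem presheaf_repToPresheaf {V : S.Opens} (R : Rep D V.ι) :
    IsOpenImmersion.presheaf (repToPresheaf R) := by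
  refine MorphismProperty.relative.of_exists fun T g => ?_
  let P : Pt D T := yonedaEquiv g
  let O : T.Opens := P.1 ⁻¹ᵁ V
  have hg : ∀ {T' : Scheme.{u}} (a : T' ⟶ T),
      g.app (op T') a = (⟨a ≫ P.1, P.2.pull a (t' := a ≫ P.1) rfl⟩ : Pt D T') := fun a => by
    show _ = (presheaf D).map a.op (yonedaEquiv g)
    rw [yonedaEquiv_naturality]
    show _ = g.app _ (𝟙 _ ≫ a)
    rw [Category.id_comp]
  obtain ⟨b, hb, -⟩ := existsUnique_rep R ⟨O.ι ≫ P.1, P.2.pull O.ι (t' := O.ι ≫ P.1) rfl⟩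
    (P.1 ∣_ V) (morphismRestrict_ι _ _)
  have w : yoneda.map b ≫ repToPresheaf R = yoneda.map O.ι ≫ g := by
    apply yonedaEquiv.injective
    show (⟨(𝟙 _ ≫ b) ≫ R.π ≫ V.ι, R.univ.pull (𝟙 _ ≫ b) rfl⟩ : Pt D _) = g.app _ (𝟙 _ ≫ O.ι)
    rw [hg]
    simp only [Category.id_comp]
    exact hb
  refine ⟨O.toScheme, yoneda.map b, O.ι, ⟨⟨w⟩, ⟨PullbackCone.IsLimit.mk w
    (fun s => { app := fun T' => TypeCat.ofHom fun x => IsOpenImmersion.lift O.ι (s.snd.app T' x) ?_
                naturality := ?_ }) ?_ ?_ ?_⟩⟩, inferInstance⟩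
  · rintro _ ⟨y, rfl⟩
    rw [Scheme.Opens.range_ι]
    have h := congrArg (fun η : s.pt ⟶ presheaf D => η.app T' x) s.condition
    have h' : (⟨_, R.univ.pull (s.fst.app T' x) rfl⟩ : Pt D T'.unop) = ⟨_, _⟩ := h.trans (hg _)
    let a₂ : T'.unop ⟶ T := s.snd.app T' x
    let a₁ : T'.unop ⟶ R.U := s.fst.app T' x
    have e : a₁ ≫ R.π ≫ V.ι = a₂ ≫ P.1 := congrArg Sigma.fst h'
    show P.1 (a₂ y) ∈ V
    rw [← Scheme.Hom.comp_apply, ← e, Scheme.Hom.comp_apply, Scheme.Hom.comp_apply]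
    exact ((R.π (a₁ y)) : V).2
  · intro T' T'' m
    apply ConcreteCategory.hom_ext
    intro x
    show IsOpenImmersion.lift O.ι (s.snd.app T'' (s.pt.map m x)) _ =
      m.unop ≫ IsOpenImmersion.lift O.ι (s.snd.app T' x) _
    rw [← cancel_mono O.ι, Category.assoc, IsOpenImmersion.lift_fac, IsOpenImmersion.lift_fac]
    exact NatTrans.naturality_apply s.snd m x
  · intro s
    ext T' x
    show IsOpenImmersion.lift O.ι (s.snd.app T' x) _ ≫ b = s.fst.app T' x
    set l := IsOpenImmersion.lift O.ι (s.snd.app T' x) _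
    have hl : l ≫ O.ι = s.snd.app T' x := IsOpenImmersion.lift_fac _ _ _
    have h := congrArg (fun η : s.pt ⟶ presheaf D => η.app T' x) s.condition
    have h2 := congrArg (fun η : yoneda.obj O.toScheme ⟶ presheaf D => η.app T' l) w
    have h3 : (repToPresheaf R).app T' (l ≫ b) = (repToPresheaf R).app T' (s.fst.app T' x) := by
      refine h2.trans ?_
      show g.app T' (l ≫ O.ι) = _
      rw [hl]
      exact h.symm
    obtain ⟨c, -, hc⟩ := existsUnique_rep R
      ((repToPresheaf R).app T' (s.fst.app T' x) : Pt D T'.unop) (s.fst.app T' x ≫ R.π)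
      (Category.assoc _ _ _)
    exact (hc _ h3).trans (hc _ rfl).symm
  · intro s
    ext T' x
    exact IsOpenImmersion.lift_fac _ _ _
  · intro s m _ h₂
    ext T' x
    show m.app T' x = IsOpenImmersion.lift O.ι (s.snd.app T' x) _
    rw [← cancel_mono O.ι, IsOpenImmersion.lift_fac]
    exact congrArg (fun η : s.pt ⟶ yoneda.obj T => η.app T' x) h₂

/-- Representations over an open cover glue to a representation over the base. -/
theorem exists_rep_of_cover {κ : Type u} (V : κ → S.Opens) (hV : ⨆ k, V k = ⊤)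
    (R : ∀ k, Rep D (V k).ι) (Q : MorphismProperty Scheme.{u}) [IsZariskiLocalAtSource Q]
    (hQ : ∀ k, Q ((R k).π ≫ (V k).ι)) : ∃ R₀ : Rep D (𝟙 S), Q R₀.π := by
  let F : Sheaf Scheme.zariskiTopology (Type u) := ⟨presheaf D, isSheaf_presheaf D⟩
  let η : ∀ k, yoneda.obj (R k).U ⟶ F.1 := fun k => repToPresheaf (R k)
  have : Presheaf.IsLocallySurjective Scheme.zariskiTopology (Sigma.desc η) := ⟨fun {T} s => by
    let O : κ → T.Opens := fun k => (s : Pt D T).1 ⁻¹ᵁ V k
    have htop : IsOpenCover O := by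
      show iSup O = ⊤
      rw [show iSup O = (s : Pt D T).1 ⁻¹ᵁ iSup V from ((s : Pt D T).1.preimage_iSup V).symm, hV]
      rfl
    refine GrothendieckTopology.superset_covering _ ?_
      (Scheme.openCoverOfIsOpenCover T O htop).mem_grothendieckTopology
    rw [Sieve.ofArrows, Sieve.generate_le_iff]
    rintro _ _ ⟨k⟩
    obtain ⟨b, hb, -⟩ := existsUnique_rep (R k)
      ⟨(O k).ι ≫ (s : Pt D T).1, (s : Pt D T).2.pull (O k).ι (t' := (O k).ι ≫ (s : Pt D T).1) rfl⟩
      ((s : Pt D T).1 ∣_ V k) (morphismRestrict_ι _ _)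
    refine ⟨(Sigma.ι (fun k => yoneda.obj (R k).U) k).app _ b, ?_⟩
    rw [← NatTrans.comp_app_apply, Sigma.ι_desc]
    exact hb⟩
  have hf : ∀ k, IsOpenImmersion.presheaf (η k) := fun k => presheaf_repToPresheaf (R k)
  let U := (Scheme.LocalRepresentability.glueData (F := F) hf).glued
  let E : (presheaf D).RepresentableBy U :=
    Scheme.LocalRepresentability.representableBy (F := F) hf
  let univP : Pt D U := E.homEquiv (𝟙 U)
  have key : ∀ {T : Scheme.{u}} (b : T ⟶ U),
      (E.homEquiv b : Pt D T) = ⟨b ≫ univP.1, univP.2.pull b rfl⟩ := fun b =>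
    (congrArg E.homEquiv (Category.comp_id b).symm).trans (E.homEquiv_comp b (𝟙 U))
  refine ⟨{ U := U, π := univP.1
            univ := univP.2.pull (𝟙 U) (by simp)
            exists_lift := fun T z σ => ?_
            hom_ext := fun T b b' h₁ h₂ => ?_ }, ?_⟩
  · refine ⟨E.homEquiv.symm (⟨z, σ.pull (𝟙 T) (by simp)⟩ : Pt D T), ?_, fun T' i a x e e' => ?_⟩
    · have := congrArg Sigma.fst ((key _).symm.trans
        (E.homEquiv.apply_symm_apply (⟨z, σ.pull (𝟙 T) (by simp)⟩ : Pt D T)))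
      exact this
    · set b := E.homEquiv.symm (⟨z, σ.pull (𝟙 T) (by simp)⟩ : Pt D T)
      have hb := (key b).symm.trans
        (E.homEquiv.apply_symm_apply (⟨z, σ.pull (𝟙 T) (by simp)⟩ : Pt D T))
      have e₁ : a ≫ b ≫ univP.1 = x ≫ f i := by simpa using e'
      have h3 := Pt.eval_congr hb a x e₁
      rw [Sec.eval_pull, Sec.eval_pull] at h3
      rw [Sec.eval_pull]
      exact ((univP.2.eval_congr (Category.comp_id _) rfl _ _).trans h3).trans
        (σ.eval_congr (Category.comp_id a) rfl _ _)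
  · refine E.homEquiv.injective ?_
    rw [key, key]
    refine Pt.ext' h₁ fun T' i a x e => ?_
    rw [Sec.eval_pull, Sec.eval_pull]
    have e₁ : (a ≫ b) ≫ univP.1 ≫ 𝟙 S = x ≫ f i := by simpa using e
    have e₂ : (a ≫ b') ≫ univP.1 ≫ 𝟙 S = x ≫ f i := by
      rw [← e₁]; simp only [Category.assoc, reassoc_of% h₁]
    have h3 := h₂ i a x e₁ e₂
    rw [Sec.eval_pull, Sec.eval_pull] at h3
    exact ((univP.2.eval_congr (Category.comp_id _).symm rfl _ _).trans h3).trans
      (univP.2.eval_congr (Category.comp_id _) rfl _ _)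
  · show Q univP.1
    rw [IsZariskiLocalAtSource.iff_of_openCover (P := Q)
      (Scheme.LocalRepresentability.glueData (F := F) hf).openCover]
    intro k
    have hk : Scheme.LocalRepresentability.toGlued (F := F) hf k ≫ univP.1 = (R k).π ≫ (V k).ι := by
      have h1 : (E.homEquiv (Scheme.LocalRepresentability.toGlued (F := F) hf k) : Pt D (R k).U) =
          ⟨𝟙 _ ≫ (R k).π ≫ (V k).ι, (R k).univ.pull (𝟙 _) rfl⟩ :=
        Scheme.LocalRepresentability.yonedaGluedToSheaf_app_toGlued (F := F) hf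
      have h2 := congrArg Sigma.fst ((key _).symm.trans h1)
      exact h2.trans (Category.id_comp _)
    rw [show (Scheme.LocalRepresentability.glueData (F := F) hf).openCover.f k ≫ univP.1 = _ from hk]
    exact hQ k

end Groth.Agent.EffDesc25
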