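import Groth.Agent.Lib.EffDesc25.Base
import Groth.Agent.Lib.UnivSubm25.Basic

/-!
# Properties of descended schemes
-/

set_option autoImplicit false
set_option backward.isDefEq.respectTransparency false
set_option backward.isDefEq.respectTransparency.types false
universe u

open CategoryTheory CategoryTheory.Limits AlgebraicGeometry

namespace Groth.Agent.EffDesc25

theorem quasiCompact_of_surjective_comp {X Y Z : Scheme.{u}} (q : X ⟶ Y) (h : Y ⟶ Z) [Surjective q]
    [QuasiCompact (q ≫ h)] : QuasiCompact h := by
  refine ⟨fun K hK hKc => ?_⟩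
  have h1 := (QuasiCompact.isCompact_preimage (f := q ≫ h) K hK hKc).image q.continuous
  have h2 : (q ≫ h) ⁻¹' K = q ⁻¹' (h ⁻¹' K) := by
    ext x; simp only [Set.mem_preimage, Scheme.Hom.comp_apply]
  rw [h2, Set.image_preimage_eq _ q.surjective] at h1
  exact h1

variable {S S' : Scheme.{u}} {g : S' ⟶ S} {D₀ : Desc.SchDDFam (fun _ : PUnit.{1} => g)}
  {Z : Scheme.{u}} {p : Z ⟶ S}

/-- The descended scheme of a separated quasi-compact datum is separated and quasi-compact. -/
theorem isSeparated_and_quasiCompact (hg : SGA1.UnivSubmersive g) [QuasiCompact g]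
    [IsSeparated (D₀.obj PUnit.unit).hom] [QuasiCompact (D₀.obj PUnit.unit).hom] (U : Over Z)
    (e : (Desc.toDDFam (fun _ : PUnit.{1} => pullback.snd g p)).obj U ≅ pullD D₀ p) :
    IsSeparated U.hom ∧ QuasiCompact U.hom := by
  haveI : IsIso (eMor U e) := ⟨eInv U e, eMor_eInv U e, eInv_eMor U e⟩
  have hQ : SGA1.UnivSubmersive (pullback.snd g p) := MorphismProperty.pullback_snd _ _ hg
  have h₁ : IsSeparated (pullback.fst (pullback.snd g p) U.hom) := by
    rw [← eMor_snd U e]; infer_instance
  have h₂ : QuasiCompact (pullback.fst (pullback.snd g p) U.hom) := by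
    rw [← eMor_snd U e]; infer_instance
  refine ⟨MorphismProperty.of_pullback_fst_of_descendsAlong (P := @IsSeparated) hQ h₁, ?_⟩
  haveI : Surjective (pullback.snd g p) :=
    ⟨(UnivSubm25.isQuotientMap_of_univSubmersive hQ).surjective⟩
  haveI : Surjective (pullback.snd (pullback.snd g p) U.hom) :=
    MorphismProperty.pullback_snd _ _ ‹_›
  haveI : QuasiCompact (pullback.snd (pullback.snd g p) U.hom ≫ U.hom) := by
    rw [← pullback.condition]; infer_instance
  exact quasiCompact_of_surjective_comp (pullback.snd (pullback.snd g p) U.hom) U.hom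

end Groth.Agent.EffDesc25
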