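import Groth.Agent.Lib.SchDesc12.Glue
import Groth.Agent.Lib.UnivSubm25.Graph
import Groth.Prelude.Def_DescFam

/-!
# Descended schemes of one-member descent data over a base change
-/

set_option autoImplicit false
set_option backward.isDefEq.respectTransparency false
set_option backward.isDefEq.respectTransparency.types false
universe u

open CategoryTheory CategoryTheory.Limits AlgebraicGeometry

namespace Groth.Agent.EffDesc25

open Groth.Agent.SchDesc12

variable {S S' : Scheme.{u}} {g : S' ⟶ S}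

/-- The same datum with index type in the universe of the schemes. -/
def toU (D : Desc.SchDDFam (fun _ : PUnit.{1} => g)) : Desc.SchDDFam (fun _ : PUnit.{u + 1} => g) where
  obj _ := D.obj PUnit.unit
  φ _ _ _ x₀ x₁ h := D.φ x₀ x₁ h
  φ_natural _ _ c _ _ x₀ x₁ h y₀ y₁ h₀ h₁ h' v v' hv := D.φ_natural c x₀ x₁ h y₀ y₁ h₀ h₁ h' v v' hv
  φ_self _ _ x v := D.φ_self x v
  φ_comp _ _ _ _ x₀ x₁ x₂ h₀₁ h₁₂ v := D.φ_comp x₀ x₁ x₂ h₀₁ h₁₂ v

/-- A scheme over `Z` whose base change is the datum over `Z`. -/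
structure Sol (D : Desc.SchDDFam (fun _ : PUnit.{u + 1} => g)) {Z : Scheme.{u}} (p : Z ⟶ S) where
  /-- the scheme -/
  U : Scheme.{u}
  /-- its structure morphism -/
  π : U ⟶ Z
  /-- the universal section -/
  univ : Sec D (π ≫ p)
  bij : ∀ ⦃T : Scheme.{u}⦄ (x : T ⟶ S') (z : T ⟶ Z) (_ : z ≫ p = x ≫ g)
    (v : Desc.Lifts (D.obj PUnit.unit) x),
    ∃! b : T ⟶ U, b ≫ π = z ∧ ∀ e, (univ.eval (i := PUnit.unit) b x e).1 = v.1

variable {D : Desc.SchDDFam (fun _ : PUnit.{u + 1} => g)} {Z : Scheme.{u}} {p : Z ⟶ S}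

theorem eval_congr' {T : Scheme.{u}} {t : T ⟶ S} (σ : Sec D t) {T' : Scheme.{u}} {a a' : T' ⟶ T}
    {x x' : T' ⟶ S'} (ha : a = a') (hx : x = x') (e : a ≫ t = x ≫ g) (e' : a' ≫ t = x' ≫ g) :
    (σ.eval (i := PUnit.unit) a x e).1 = (σ.eval (i := PUnit.unit) a' x' e').1 := by
  subst ha hx; rfl

/-- The two compatible values of a section. -/
theorem eval_eq_φ {T : Scheme.{u}} {t : T ⟶ S} (σ : Sec D t) {T' : Scheme.{u}} (a : T' ⟶ T)
    (x y : T' ⟶ S') (ex : a ≫ t = x ≫ g) (ey : a ≫ t = y ≫ g) (v : Desc.Lifts (D.obj PUnit.unit) x)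
    (hv : v.1 = (σ.eval (i := PUnit.unit) a x ex).1) :
    (σ.eval (i := PUnit.unit) a y ey).1 =
      (D.φ (i := PUnit.unit) (j := PUnit.unit) x y (ex.symm.trans ey) v).1 := by
  rw [show v = σ.eval a x ex from Subtype.ext hv, σ.eval_compat a x y ex ey]

/-- Descended étale schemes represent the sections. -/
noncomputable def Sol.toRep (A : Sol D p) [Etale A.π] (hg : SGA1.UnivSubmersive g) : Rep D p where
  U := A.U
  π := A.π
  univ := A.univ
  exists_lift T z σ := by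
    let gZ : pullback g p ⟶ Z := pullback.snd g p
    have hgZ : SGA1.UnivSubmersive gZ := MorphismProperty.pullback_snd _ _ hg
    let aT := pullback.fst z gZ
    let xT := pullback.snd z gZ ≫ pullback.fst g p
    have hT : (aT ≫ z) ≫ p = xT ≫ g := by
      simp only [aT, xT, gZ, pullback.condition, Category.assoc]
    have hT' : aT ≫ z ≫ p = xT ≫ g := by rw [← Category.assoc, hT]
    obtain ⟨φ, ⟨hφπ, hφv⟩, hφu⟩ := A.bij xT (aT ≫ z) hT (σ.eval (i := PUnit.unit) aT xT hT')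
    have huniq : ∀ {T' : Scheme.{u}} (m : T' ⟶ pullback z gZ) (b : T' ⟶ A.U),
        b ≫ A.π = m ≫ aT ≫ z →
        (∀ e e', (A.univ.eval (i := PUnit.unit) b (m ≫ xT) e).1 =
          (σ.eval (i := PUnit.unit) (m ≫ aT) (m ≫ xT) e').1) → m ≫ φ = b := by
      intro T' m b hb hv
      obtain ⟨b₀, -, hu⟩ := A.bij (m ≫ xT) (m ≫ aT ≫ z)
        (by simp only [Category.assoc]; rw [hT'])
        (σ.eval (i := PUnit.unit) (m ≫ aT) (m ≫ xT) (by simp only [Category.assoc, hT']))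
      refine (hu _ ⟨by rw [Category.assoc, hφπ], fun e => ?_⟩).trans (hu _ ⟨hb, fun e => hv _ _⟩).symm
      have e₀ : φ ≫ A.π ≫ p = xT ≫ g := by rw [← Category.assoc, hφπ, hT]
      rw [A.univ.eval_natural m φ xT e₀ (m ≫ φ) (m ≫ xT) rfl rfl e,
        σ.eval_natural m aT xT hT' (m ≫ aT) (m ≫ xT) rfl rfl, hφv]
    haveI : Etale A.π := ‹_›
    obtain ⟨b, ⟨hb₁, hb₂⟩, -⟩ := UnivSubm25.exists_desc_etale z A.π gZ hgZ φ
      (by rw [hφπ]; exact pullback.condition) (by
        intro T' x s₁ s₂ h₁ h₂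
        refine huniq _ _ ?_ fun e e' => ?_
        · rw [Category.assoc, hφπ, pullback.lift_fst_assoc, pullback.lift_fst_assoc]
        · -- both values agree with the value at the first point
          set m₁ := pullback.lift x s₁ h₁
          set m₂ := pullback.lift x s₂ h₂
          have e₀ : φ ≫ A.π ≫ p = xT ≫ g := by rw [← Category.assoc, hφπ, hT]
          have e₂ : (m₂ ≫ φ) ≫ A.π ≫ p = (m₂ ≫ xT) ≫ g :=
            (Category.assoc _ _ _).trans ((congrArg (m₂ ≫ ·) e₀).trans (Category.assoc _ _ _).symm)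
          have hm : m₂ ≫ aT = m₁ ≫ aT := by simp [m₁, m₂, aT, pullback.lift_fst]
          have e₂' : (m₁ ≫ aT) ≫ z ≫ p = (m₂ ≫ xT) ≫ g := by
            rw [← hm]
            exact (Category.assoc _ _ _).trans ((congrArg (m₂ ≫ ·) hT').trans (Category.assoc _ _ _).symm)
          rw [eval_eq_φ A.univ (m₂ ≫ φ) (m₂ ≫ xT) (m₁ ≫ xT) e₂ e _ rfl,
            eval_eq_φ σ (m₁ ≫ aT) (m₂ ≫ xT) (m₁ ≫ xT) e₂' e' _ rfl]
          refine congrArg (fun v => (D.φ (m₂ ≫ xT) (m₁ ≫ xT) _ v).1) (Subtype.ext ?_)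
          rw [A.univ.eval_natural m₂ φ xT e₀ (m₂ ≫ φ) (m₂ ≫ xT) rfl rfl, hφv,
            ← σ.eval_natural m₂ aT xT hT' (m₂ ≫ aT) (m₂ ≫ xT) rfl rfl
              ((Category.assoc _ _ _).trans ((congrArg (m₂ ≫ ·) hT').trans (Category.assoc _ _ _).symm))]
          exact eval_congr' σ hm rfl _ _)
    refine ⟨b, hb₁, fun T' i a x e e' => ?_⟩
    obtain ⟨⟩ := i
    have hw : a ≫ z = pullback.lift x (a ≫ z) (by rw [Category.assoc, e]) ≫ gZ :=
      (pullback.lift_snd _ _ _).symm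
    let m : T' ⟶ pullback z gZ := pullback.lift a _ hw
    have hma : m ≫ aT = a := pullback.lift_fst _ _ _
    have hmx : m ≫ xT = x := by simp [m, xT, pullback.lift_snd_assoc, pullback.lift_fst]
    have e₀ : φ ≫ A.π ≫ p = xT ≫ g := by rw [← Category.assoc, hφπ, hT]
    have hmφ : m ≫ φ = a ≫ b := by rw [hb₂, reassoc_of% hma]
    calc (A.univ.eval (i := PUnit.unit) (a ≫ b) x e').1
        = (A.univ.eval (i := PUnit.unit) (m ≫ φ) (m ≫ xT)
            ((Category.assoc _ _ _).trans ((congrArg (m ≫ ·) e₀).trans (Category.assoc _ _ _).symm))).1 :=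
          eval_congr' _ hmφ.symm hmx.symm _ _
      _ = m ≫ (A.univ.eval (i := PUnit.unit) φ xT e₀).1 := A.univ.eval_natural m φ xT e₀ _ _ rfl rfl _
      _ = m ≫ (σ.eval (i := PUnit.unit) aT xT hT').1 := by rw [hφv]
      _ = (σ.eval (i := PUnit.unit) a x e).1 := (σ.eval_natural m aT xT hT' _ _ hma hmx e).symm
  hom_ext T b b' h₁ h₂ := by
    let gZ : pullback g p ⟶ Z := pullback.snd g p
    have hgZ : SGA1.UnivSubmersive gZ := MorphismProperty.pullback_snd _ _ hg
    let z := b ≫ A.π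
    obtain ⟨b₀, -, hu⟩ := UnivSubm25.exists_desc_etale z A.π gZ hgZ (pullback.fst z gZ ≫ b)
      (by rw [Category.assoc]; exact pullback.condition)
      (by intro T' x s₁ s₂ e₁ e₂; rw [pullback.lift_fst_assoc, pullback.lift_fst_assoc])
    refine (hu b ⟨rfl, rfl⟩).trans (hu b' ⟨h₁.symm, ?_⟩).symm
    let x := pullback.snd z gZ ≫ pullback.fst g p
    have hx : ((pullback.fst z gZ ≫ b) ≫ A.π) ≫ p = x ≫ g := by
      simp only [Category.assoc, x]
      rw [pullback.condition (f := g) (g := p), ← Category.assoc (pullback.snd z gZ)]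
      rw [show pullback.snd z gZ ≫ pullback.snd g p = pullback.fst z gZ ≫ z from pullback.condition.symm]
      simp [z]
    obtain ⟨b₁, -, hu₁⟩ := A.bij x ((pullback.fst z gZ ≫ b) ≫ A.π) hx
      (A.univ.eval (i := PUnit.unit) (pullback.fst z gZ ≫ b) x (by rw [← hx]; simp))
    refine (hu₁ _ ⟨rfl, fun e => rfl⟩).trans (hu₁ _ ⟨?_, fun e => ?_⟩).symm
    · rw [Category.assoc, ← h₁, Category.assoc]
    · exact (h₂ PUnit.unit _ x _ e).symm

/-- A representation of the sections is a descended scheme. -/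
noncomputable def solOfRep (R : Rep D p) : Sol D p where
  U := R.U
  π := R.π
  univ := R.univ
  bij T x z hz v := by
    obtain ⟨b, hb₁, hb₂⟩ := R.exists_lift z
      ((ofLift D (i := PUnit.unit) (x := x) v).pull (𝟙 T) (t' := z ≫ p) (by rw [Category.id_comp, hz]))
    have hval : ∀ {T' : Scheme.{u}} (a : T' ⟶ T) (y : T' ⟶ S') (e : a ≫ z ≫ p = y ≫ g),
        (((ofLift D (i := PUnit.unit) (x := x) v).pull (𝟙 T) (t' := z ≫ p)
          (by rw [Category.id_comp, hz])).eval (i := PUnit.unit) a y e).1 =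
        (D.φ (i := PUnit.unit) (j := PUnit.unit) (a ≫ x) y
          (by rw [Category.assoc, ← hz, e]) ⟨a ≫ v.1, by rw [Category.assoc, v.2]⟩).1 := by
      intro T' a y e
      rw [Sec.eval_pull]
      refine (eval_congr' _ (Category.comp_id a) rfl _ (by rw [← hz, e])).trans ?_
      exact congrArg Subtype.val (eval_ofLift D v a y _)
    refine ⟨b, ⟨hb₁, fun e => ?_⟩, fun b' ⟨hb'₁, hb'₂⟩ => ?_⟩
    · have e' : 𝟙 T ≫ z ≫ p = x ≫ g := by rw [Category.id_comp, hz]
      rw [eval_congr' R.univ (Category.id_comp b).symm rfl e (by rw [Category.id_comp, e])]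
      refine (hb₂ PUnit.unit (𝟙 T) x e' _).trans ?_
      rw [hval]
      have hh : ∀ (y : T ⟶ S') (e₁ : y ≫ g = x ≫ g) (w : Desc.Lifts (D.obj PUnit.unit) y), y = x →
          w.1 = v.1 → (D.φ (i := PUnit.unit) (j := PUnit.unit) y x e₁ w).1 = v.1 := by
        rintro y e₁ w rfl hw
        rw [D.φ_self, hw]
      exact hh _ _ _ (Category.id_comp x) (Category.id_comp v.1)
    · refine R.hom_ext b' b (hb'₁.trans hb₁.symm) fun T' i a y e e' => ?_
      obtain ⟨⟩ := i
      have ez : a ≫ z ≫ p = y ≫ g := by rw [← e', Category.assoc, reassoc_of% hb₁]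
      rw [hb₂ PUnit.unit a y ez e', hval]
      have ex : (a ≫ b') ≫ R.π ≫ p = (a ≫ x) ≫ g := by
        rw [Category.assoc, reassoc_of% hb'₁, hz, Category.assoc]
      refine eval_eq_φ R.univ (a ≫ b') (a ≫ x) y ex e _ ?_
      have e₀ : b' ≫ R.π ≫ p = x ≫ g := by rw [reassoc_of% hb'₁, hz]
      exact ((R.univ.eval_natural a b' x e₀ _ _ rfl rfl ex).trans (congrArg (a ≫ ·) (hb'₂ e₀))).symm

@[simp] theorem solOfRep_π (R : Rep D p) : (solOfRep R).π = R.π := rfl

end Groth.Agent.EffDesc25
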