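import Groth.Agent.Lib.EffDesc25.Stage
import Groth.Agent.Lib.LimH13.DescendFP
import Groth.Agent.Lib.Descend.EtaleGlobal
import Groth.Agent.Lib.UnivSubm25.Basic

/-!
# Effectivity spreads out from a limit to a stage
-/

set_option autoImplicit false
set_option backward.isDefEq.respectTransparency false
set_option backward.isDefEq.respectTransparency.types false
set_option linter.style.haveILetI false
universe u

open CategoryTheory CategoryTheory.Limits AlgebraicGeometry

namespace Groth.Agent.EffDesc25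

open Groth.Agent.SchDesc12 Groth.Agent.Descend Groth.Agent.LimH13

theorem surjective_of_univSubmersive {X Y : Scheme.{u}} {f : X ⟶ Y} (hf : SGA1.UnivSubmersive f) :
    Surjective f :=
  ⟨(UnivSubm25.isQuotientMap_of_univSubmersive hf).surjective⟩

theorem quasiSeparatedSpace_of_surjective {X Y : Scheme.{u}} (f : X ⟶ Y) [QuasiCompact f]
    [Surjective f] [QuasiSeparatedSpace X] : QuasiSeparatedSpace Y := by
  refine ⟨fun U V hU hUc hV hVc => ?_⟩
  have h := QuasiSeparatedSpace.inter_isCompact (f ⁻¹' U) (f ⁻¹' V) (hU.preimage f.continuous)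
    (QuasiCompact.isCompact_preimage (f := f) U hU hUc) (hV.preimage f.continuous)
    (QuasiCompact.isCompact_preimage (f := f) V hV hVc)
  rw [← Set.preimage_inter] at h
  have := h.image f.continuous
  rwa [Set.image_preimage_eq _ f.surjective] at this

theorem compactSpace_qs_pullback {X Y Z : Scheme.{u}} (f : X ⟶ Z) (g : Y ⟶ Z) [CompactSpace Y]
    [QuasiSeparatedSpace Y] [QuasiCompact f] [QuasiSeparated f] :
    CompactSpace (pullback f g :) ∧ QuasiSeparatedSpace (pullback f g :) :=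
  ⟨QuasiCompact.compactSpace_of_compactSpace (pullback.snd f g),
    quasiSeparatedSpace_of_quasiSeparated (pullback.snd f g)⟩

theorem compactSpace_qs_pullback' {X Y Z : Scheme.{u}} (f : X ⟶ Z) (g : Y ⟶ Z) [CompactSpace X]
    [QuasiSeparatedSpace X] [QuasiCompact g] [QuasiSeparated g] :
    CompactSpace (pullback f g :) ∧ QuasiSeparatedSpace (pullback f g :) :=
  ⟨QuasiCompact.compactSpace_of_compactSpace (pullback.fst f g),
    quasiSeparatedSpace_of_quasiSeparated (pullback.fst f g)⟩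

variable {I : Type u} [SmallCategory I] [IsCofiltered I] {D : I ⥤ Scheme.{u}} {c : Cone D}
  [∀ {i j : I} (a : i ⟶ j), IsAffineHom (D.map a)]

/-- An étale scheme over the limit has an étale model. -/
theorem exists_etale_model (hc : IsLimit c) [∀ i, QuasiSeparatedSpace (D.obj i)] {U : Scheme.{u}}
    (f : U ⟶ c.pt) [Etale f] [CompactSpace U] [QuasiSeparatedSpace U] :
    ∃ (i : I) (P : Scheme.{u}) (π : P ⟶ D.obj i) (q : U ⟶ P), Etale π ∧ CompactSpace P ∧
      QuasiSeparatedSpace P ∧ IsPullback q f π (c.π.app i) := by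
  obtain ⟨i, P, π, q, hπ, hPc, hPq, hsq⟩ := hasModel_of_finitePresentation hc f
  haveI := hπ; haveI := hPc; haveI := hPq
  haveI : ∀ k, IsAffineHom ((overT D i).app k) := fun k =>
    ‹∀ {i j : I} (a : i ⟶ j), IsAffineHom (D.map a)› k.hom
  obtain ⟨k, hk⟩ := exists_etale (t := overT D i) (f := π) (c := c.whisker (Over.forget i))
    ((Functor.Initial.isLimitWhiskerEquiv (Over.forget i) c).symm hc) (fun k => c.w k.hom) hsq
  obtain ⟨q', -, hq'⟩ := isPullback_map_stage k.hom hsq
  haveI : IsAffineHom (D.map k.hom) := inferInstance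
  obtain ⟨h1, h2⟩ := compactSpace_qs_pullback' π (D.map k.hom)
  exact ⟨k.left, pullback π (D.map k.hom), pullback.snd _ _, q', hk, h1, h2, hq'⟩

variable {S S' : Scheme.{u}} {g : S' ⟶ S} {Δ : Desc.SchDDFam (fun _ : PUnit.{u + 1} => g)}
  {pS : c.pt ⟶ S} {tS : D ⟶ (Functor.const I).obj S}

/-- The model of the universal section. -/
theorem exists_section_model (hc : IsLimit c) (hpS : ∀ i, c.π.app i ≫ tS.app i = pS)
    [∀ i, QuasiSeparatedSpace (D.obj i)] [QuasiCompact g] [QuasiSeparated g]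
    [Etale (Δ.obj PUnit.unit).hom] (A : Sol Δ pS) [Etale A.π] [CompactSpace A.U]
    [QuasiSeparatedSpace A.U] :
    ∃ (i : I) (P : Scheme.{u}) (π : P ⟶ D.obj i) (q : A.U ⟶ P)
      (v : pullback (π ≫ tS.app i) g ⟶ (Δ.obj PUnit.unit).left)
      (qX : pullback (A.π ≫ pS) g ⟶ pullback (π ≫ tS.app i) g),
      Etale π ∧ CompactSpace P ∧ QuasiSeparatedSpace P ∧ IsPullback q A.π π (c.π.app i) ∧
      v ≫ (Δ.obj PUnit.unit).hom = pullback.snd _ _ ∧
      qX ≫ pullback.fst _ _ = pullback.fst _ _ ≫ q ∧ qX ≫ pullback.snd _ _ = pullback.snd _ _ ∧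
      qX ≫ v = A.univ.val PUnit.unit := by
  obtain ⟨i, P, π, q, hπ, hPc, hPq, hsq⟩ := exists_etale_model hc A.π
  haveI := hπ; haveI := hPc; haveI := hPq
  obtain ⟨hAc, hAq⟩ := compactSpace_qs_pullback' (π ≫ tS.app i) g
  let xA : pullback (π ≫ tS.app i) g ⟶ D.obj i := pullback.fst _ _ ≫ π
  have e₀ : (pullback.fst (A.π ≫ pS) g ≫ q) ≫ π ≫ tS.app i = pullback.snd (A.π ≫ pS) g ≫ g := by
    rw [Category.assoc, hsq.w_assoc, hpS]
    exact pullback.condition
  let qX : pullback (A.π ≫ pS) g ⟶ pullback (π ≫ tS.app i) g := pullback.lift _ _ e₀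
  have hqX : IsPullback qX (pullback.fst (A.π ≫ pS) g ≫ A.π) xA (c.π.app i) := by
    refine IsPullback.paste_vert ?_ hsq
    refine IsPullback.of_right ?_ (pullback.lift_fst _ _ _) (IsPullback.of_hasPullback (π ≫ tS.app i) g).flip
    rw [pullback.lift_snd]
    rw [show q ≫ π ≫ tS.app i = A.π ≫ pS by rw [hsq.w_assoc, hpS]]
    exact (IsPullback.of_hasPullback (A.π ≫ pS) g).flip
  let F := Over.forget i
  let c' : Cone (F ⋙ D) := c.whisker F
  have hc' : IsLimit c' := (Functor.Initial.isLimitWhiskerEquiv F c).symm hc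
  have hq : ∀ k, c'.π.app k ≫ (overT D i).app k = c.π.app i := fun k => c.w k.hom
  haveI : ∀ k, IsAffineHom ((overT D i).app k) := fun k =>
    ‹∀ {i j : I} (a : i ⟶ j), IsAffineHom (D.map a)› k.hom
  let E := pbDiagram (F ⋙ D) (overT D i) xA
  let tE : E ⟶ (Functor.const (Over i)).obj S' :=
    pbFst (F ⋙ D) (overT D i) xA ≫ (Functor.const (Over i)).map (pullback.snd _ _)
  obtain ⟨k, s, hs, hsy⟩ := Scheme.exists_π_app_comp_eq_of_locallyOfFinitePresentation E tE
    (Δ.obj PUnit.unit).hom (pbCone (F ⋙ D) (overT D i) xA c' hq hqX)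
    (pbIsLimit (F ⋙ D) (overT D i) xA c' hq hqX hc') (A.univ.val PUnit.unit) (by
      ext k
      show (pbCone (F ⋙ D) (overT D i) xA c' hq hqX).π.app k ≫
        pullback.fst xA ((overT D i).app k) ≫ pullback.snd _ _ = _
      rw [← Category.assoc, pbCone_fst, pullback.lift_snd]
      exact (A.univ.over_ PUnit.unit).symm)
  obtain ⟨q', hq'₁, hq'⟩ := isPullback_map_stage k.hom hsq
  haveI : IsAffineHom (D.map k.hom) := inferInstance
  obtain ⟨h1, h2⟩ := compactSpace_qs_pullback' π (D.map k.hom)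
  let π' := pullback.snd π (D.map k.hom)
  have e₁ : (pullback.fst (π' ≫ tS.app k.left) g ≫ pullback.fst π (D.map k.hom)) ≫ π ≫ tS.app i =
      pullback.snd (π' ≫ tS.app k.left) g ≫ g := by
    rw [Category.assoc, pullback.condition_assoc, t_nat D tS]
    exact pullback.condition
  let toA : pullback (π' ≫ tS.app k.left) g ⟶ pullback (π ≫ tS.app i) g := pullback.lift _ _ e₁
  let toE : pullback (π' ≫ tS.app k.left) g ⟶ E.obj k :=
    pullback.lift toA (pullback.fst _ _ ≫ π') (by
      simp only [xA, toA, pullback.lift_fst_assoc, Category.assoc]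
      congr 1
      exact pullback.condition)
  have e₂ : (pullback.fst (A.π ≫ pS) g ≫ q') ≫ π' ≫ tS.app k.left =
      pullback.snd (A.π ≫ pS) g ≫ g := by
    rw [Category.assoc, hq'.w_assoc, hpS]
    exact pullback.condition
  refine ⟨k.left, _, π', q', toE ≫ s, pullback.lift _ _ e₂, MorphismProperty.pullback_snd _ _ hπ,
    h1, h2, hq', ?_, pullback.lift_fst _ _ _, pullback.lift_snd _ _ _, ?_⟩
  · rw [Category.assoc, hsy]
    show toE ≫ pullback.fst xA ((overT D i).app k) ≫ pullback.snd _ _ = _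
    simp only [toE, toA, pullback.lift_fst_assoc, pullback.lift_snd]
  · refine Eq.trans ?_ hs
    rw [← Category.assoc]
    congr 1
    apply pullback.hom_ext
    · erw [pbCone_fst]
      simp only [toE, Category.assoc, pullback.lift_fst]
      apply pullback.hom_ext
      · simp only [toA, qX, Category.assoc, pullback.lift_fst, pullback.lift_fst_assoc]
        rw [hq'₁]
      · simp only [toA, qX, Category.assoc, pullback.lift_snd]
    · erw [pbCone_snd]
      simp only [toE, Category.assoc, pullback.lift_snd, pullback.lift_fst_assoc]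
      rw [hq'.w]
      rfl

/-- Effectivity spreads out from a limit to a stage. -/
theorem exists_sol_stage (hc : IsLimit c) (hpS : ∀ i, c.π.app i ≫ tS.app i = pS)
    [∀ i, CompactSpace (D.obj i)] [∀ i, QuasiSeparatedSpace (D.obj i)] [CompactSpace c.pt]
    [QuasiSeparatedSpace c.pt] (hg : SGA1.UnivSubmersive g) [LocallyOfFinitePresentation g]
    [QuasiCompact g] [QuasiSeparated g]
    [Etale (Δ.obj PUnit.unit).hom] [QuasiCompact (Δ.obj PUnit.unit).hom]
    [QuasiSeparated (Δ.obj PUnit.unit).hom] (A : Sol Δ pS) [Etale A.π] :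
    ∃ (i : I) (B : Sol Δ (tS.app i)), Etale B.π := by
  set h := (Δ.obj PUnit.unit).hom
  -- the isomorphism at the limit
  have hvh : A.univ.val PUnit.unit ≫ h = pullback.snd (A.π ≫ pS) g := A.univ.over_ PUnit.unit
  let mI : pullback (A.π ≫ pS) g ⟶ pullback (h ≫ g) pS :=
    pullback.lift (A.univ.val PUnit.unit) (pullback.fst _ _ ≫ A.π) (by
      rw [reassoc_of% hvh, Category.assoc]
      exact pullback.condition.symm)
  have hval : ∀ {T : Scheme.{u}} (a : T ⟶ pullback (A.π ≫ pS) g) (e),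
      (A.univ.eval (i := PUnit.unit) (a ≫ pullback.fst _ _) (a ≫ pullback.snd _ _) e).1 =
        a ≫ A.univ.val PUnit.unit := fun a e => by
    refine congrArg (fun m => m ≫ A.univ.val PUnit.unit) ?_
    exact pullback.hom_ext (pullback.lift_fst _ _ _) (pullback.lift_snd _ _ _)
  haveI : IsIso mI := by
    obtain ⟨b, ⟨hb₁, hb₂⟩, -⟩ := A.bij (pullback.fst (h ≫ g) pS ≫ h) (pullback.snd (h ≫ g) pS)
      (by rw [Category.assoc]; exact pullback.condition.symm) ⟨pullback.fst (h ≫ g) pS, rfl⟩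
    have eb : b ≫ A.π ≫ pS = (pullback.fst (h ≫ g) pS ≫ h) ≫ g := by
      rw [reassoc_of% hb₁, Category.assoc]; exact pullback.condition.symm
    refine ⟨pullback.lift b (pullback.fst (h ≫ g) pS ≫ h) eb, ?_, ?_⟩
    · have ex : pullback.fst (A.π ≫ pS) g ≫ A.π ≫ pS = pullback.snd (A.π ≫ pS) g ≫ g :=
        pullback.condition
      obtain ⟨b₁, -, hu⟩ := A.bij (pullback.snd (A.π ≫ pS) g) (pullback.fst _ _ ≫ A.π)
        ((Category.assoc _ _ _).trans ex) ⟨A.univ.val PUnit.unit, hvh⟩
      have hmx : mI ≫ pullback.fst (h ≫ g) pS ≫ h = pullback.snd (A.π ≫ pS) g := by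
        simp only [mI, pullback.lift_fst_assoc, hvh]
      apply pullback.hom_ext
      · rw [Category.assoc, pullback.lift_fst, Category.id_comp]
        refine (hu _ ⟨?_, fun e => ?_⟩).trans (hu _ ⟨rfl, fun e => ?_⟩).symm
        · rw [Category.assoc, hb₁, pullback.lift_snd]
        · rw [A.univ.eval_natural mI b _ eb _ _ rfl hmx e, hb₂ eb]
          exact pullback.lift_fst _ _ _
        · exact (eval_congr' _ (Category.id_comp _).symm (Category.id_comp _).symm _ (by
            simpa using ex)).trans ((hval (𝟙 _) _).trans (Category.id_comp _))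
      · rw [Category.assoc, pullback.lift_snd, Category.id_comp, hmx]
    · apply pullback.hom_ext
      · rw [Category.assoc, pullback.lift_fst, Category.id_comp]
        refine Eq.trans ?_ (hb₂ eb)
        exact (hval _ (by simp [eb, pullback.lift_fst_assoc])).symm.trans
          (eval_congr' _ (pullback.lift_fst _ _ _) (pullback.lift_snd _ _ _) _ _)
      · rw [Category.assoc, pullback.lift_snd, pullback.lift_fst_assoc, hb₁, Category.id_comp]
  -- finiteness of the scheme over the limit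
  obtain ⟨hYc, hYq⟩ := compactSpace_qs_pullback (h ≫ g) pS
  haveI : CompactSpace (pullback (A.π ≫ pS) g :) := QuasiCompact.compactSpace_of_compactSpace mI
  haveI : QuasiSeparatedSpace (pullback (A.π ≫ pS) g :) := quasiSeparatedSpace_of_quasiSeparated mI
  haveI : Surjective g := surjective_of_univSubmersive hg
  haveI : Surjective (pullback.fst (A.π ≫ pS) g) := MorphismProperty.pullback_fst _ _ ‹_›
  haveI : CompactSpace A.U := ⟨by
    rw [← Set.range_eq_univ.2 (pullback.fst (A.π ≫ pS) g).surjective]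
    exact isCompact_range (pullback.fst (A.π ≫ pS) g).continuous⟩
  haveI : QuasiSeparatedSpace A.U := quasiSeparatedSpace_of_surjective (pullback.fst (A.π ≫ pS) g)
  obtain ⟨i, P, π, q, v, qX, hπ, hPc, hPq, hsq, hv, hqX₁, hqX₂, hqXv⟩ :=
    exists_section_model hc hpS A
  haveI := hπ; haveI := hPc; haveI := hPq
  let w : D.obj i ⟶ S := tS.app i
  have hw : c.π.app i ≫ w = pS := hpS i
  obtain ⟨hAc, hAq⟩ := compactSpace_qs_pullback' (π ≫ w) g
  let xA : pullback (π ≫ w) g ⟶ D.obj i := pullback.fst _ _ ≫ π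
  let yB : pullback (h ≫ g) w ⟶ D.obj i := pullback.snd _ _
  let m : pullback (π ≫ w) g ⟶ pullback (h ≫ g) w := pullback.lift v xA (by
    rw [reassoc_of% hv, Category.assoc]
    exact pullback.condition.symm)
  obtain ⟨hBc, hBq⟩ := compactSpace_qs_pullback (h ≫ g) w
  haveI : LocallyOfFinitePresentation m := by
    haveI : LocallyOfFinitePresentation (m ≫ yB) := by
      rw [pullback.lift_snd]
      haveI : LocallyOfFinitePresentation (pullback.fst (π ≫ w) g) :=
        MorphismProperty.pullback_fst _ _ ‹_›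
      infer_instance
    exact SchBasic.locallyOfFinitePresentation_of_comp m yB
  haveI : QuasiCompact m :=
    haveI : QuasiCompact (m ≫ (pullback (h ≫ g) w).toSpecΓ) :=
      (quasiCompact_iff_compactSpace _).2 inferInstance
    QuasiCompact.of_comp m (pullback (h ≫ g) w).toSpecΓ
  haveI : QuasiSeparated m :=
    haveI : QuasiSeparated (m ≫ (pullback (h ≫ g) w).toSpecΓ) :=
      (HasAffineProperty.iff_of_isAffine (P := @QuasiSeparated)).2 inferInstance
    QuasiSeparated.of_comp m (pullback (h ≫ g) w).toSpecΓ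
  let F := Over.forget i
  let c' : Cone (F ⋙ D) := c.whisker F
  have hc' : IsLimit c' := (Functor.Initial.isLimitWhiskerEquiv F c).symm hc
  have hq : ∀ k, c'.π.app k ≫ (overT D i).app k = c.π.app i := fun k => c.w k.hom
  haveI : ∀ k, IsAffineHom ((overT D i).app k) := fun k =>
    ‹∀ {i j : I} (a : i ⟶ j), IsAffineHom (D.map a)› k.hom
  -- invertibility at a stage
  have eY : (pullback.fst (h ≫ g) pS) ≫ (h ≫ g) = (pullback.snd (h ≫ g) pS ≫ c.π.app i) ≫ w := by
    rw [Category.assoc, hw]; exact pullback.condition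
  let qY : pullback (h ≫ g) pS ⟶ pullback (h ≫ g) w := pullback.lift _ _ eY
  have hqY : IsPullback qY (pullback.snd (h ≫ g) pS) yB (c.π.app i) := by
    refine IsPullback.of_right ?_ (pullback.lift_snd _ _ _) (IsPullback.of_hasPullback (h ≫ g) w)
    rw [pullback.lift_fst, hw]
    exact IsPullback.of_hasPullback _ _
  have hqX : IsPullback qX (pullback.fst (A.π ≫ pS) g ≫ A.π) xA (c.π.app i) := by
    refine IsPullback.paste_vert ?_ hsq
    refine IsPullback.of_right ?_ hqX₁ (IsPullback.of_hasPullback (π ≫ w) g).flip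
    rw [hqX₂, show q ≫ π ≫ w = A.π ≫ pS by rw [hsq.w_assoc, hw]]
    exact (IsPullback.of_hasPullback (A.π ≫ pS) g).flip
  have hm : IsPullback qX mI m qY := by
    refine IsPullback.of_bot ?_ ?_ hqY
    · rw [pullback.lift_snd, pullback.lift_snd]
      exact hqX
    · apply pullback.hom_ext
      · simp only [m, mI, qY, Category.assoc, pullback.lift_fst, hqXv]
      · simp only [m, mI, qY, Category.assoc, pullback.lift_snd, pullback.lift_snd_assoc, xA]
        exact (Category.assoc _ _ _).symm.trans ((congrArg (fun m => m ≫ π) hqX₁).trans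
          ((Category.assoc _ _ _).trans (congrArg (pullback.fst _ _ ≫ ·) hsq.w)))
  obtain ⟨k₁, hk₁⟩ := LimH13.exists_isIso (D := pbDiagram (F ⋙ D) (overT D i) yB)
    (t := pbFst (F ⋙ D) (overT D i) yB)
    (pbIsLimit (F ⋙ D) (overT D i) yB c' hq hqY hc')
    (pbCone_fst (F ⋙ D) (overT D i) yB c' hq hqY) hm
  -- compatibility at a stage
  let A2 := pullback (pullback.fst (π ≫ w) g ≫ π ≫ w) g
  obtain ⟨h2c, h2q⟩ := compactSpace_qs_pullback' (pullback.fst (π ≫ w) g ≫ π ≫ w) g
  let x0 : A2 ⟶ S' := pullback.fst _ _ ≫ pullback.snd (π ≫ w) g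
  let x1 : A2 ⟶ S' := pullback.snd _ _
  let bb : A2 ⟶ P := pullback.fst _ _ ≫ pullback.fst (π ≫ w) g
  let xA2 : A2 ⟶ D.obj i := pullback.fst _ _ ≫ xA
  have e0 : bb ≫ π ≫ w = x0 ≫ g := by
    simp only [bb, x0, Category.assoc]
    exact congrArg (pullback.fst _ _ ≫ ·) pullback.condition
  have e1 : bb ≫ π ≫ w = x1 ≫ g := by
    simp only [bb, x1, Category.assoc]; exact pullback.condition
  have hl : ∀ (x : A2 ⟶ S') (e), (pullback.lift bb x e ≫ v) ≫ h = x := fun x e => by
    rw [Category.assoc, hv, pullback.lift_snd]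
  let r₁ : A2 ⟶ (Δ.obj PUnit.unit).left := (Δ.φ (i := PUnit.unit) (j := PUnit.unit) x0 x1
    (e0.symm.trans e1) ⟨pullback.lift bb x0 e0 ≫ v, hl x0 e0⟩).1
  let r₂ : A2 ⟶ (Δ.obj PUnit.unit).left := pullback.lift bb x1 e1 ≫ v
  have hr₁ : r₁ ≫ h = x1 := (Δ.φ (i := PUnit.unit) (j := PUnit.unit) x0 x1
    (e0.symm.trans e1) ⟨pullback.lift bb x0 e0 ≫ v, hl x0 e0⟩).2
  have hr₂ : r₂ ≫ h = x1 := hl x1 e1
  have heq : pullback.fst xA2 (c.π.app i) ≫ r₁ = pullback.fst xA2 (c.π.app i) ≫ r₂ := by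
    set n := pullback.fst xA2 (c.π.app i)
    have hn : (n ≫ bb) ≫ π = pullback.snd xA2 (c.π.app i) ≫ c.π.app i := by
      refine Eq.trans ?_ pullback.condition
      simp only [n, bb, xA2, xA, Category.assoc]
    let b : pullback xA2 (c.π.app i) ⟶ A.U := hsq.lift (n ≫ bb) _ hn
    have key : ∀ (x : A2 ⟶ S') (e : bb ≫ π ≫ w = x ≫ g) (e' : b ≫ A.π ≫ pS = (n ≫ x) ≫ g),
        n ≫ pullback.lift bb x e ≫ v = (A.univ.eval (i := PUnit.unit) b (n ≫ x) e').1 := by
      intro x e e'
      show _ = pullback.lift b (n ≫ x) e' ≫ A.univ.val PUnit.unit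
      rw [← hqXv, ← Category.assoc, ← Category.assoc (pullback.lift b _ _)]
      refine congrArg (fun m => m ≫ v) ?_
      apply pullback.hom_ext
      · rw [Category.assoc, pullback.lift_fst, Category.assoc, hqX₁, pullback.lift_fst_assoc]
        exact (hsq.lift_fst _ _ _).symm
      · rw [Category.assoc, pullback.lift_snd, Category.assoc, hqX₂, pullback.lift_snd]
    have hb : ∀ (x : A2 ⟶ S'), bb ≫ π ≫ w = x ≫ g → b ≫ A.π ≫ pS = (n ≫ x) ≫ g := fun x e => by
      have h1 : b ≫ A.π ≫ c.π.app i = (n ≫ bb) ≫ π := by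
        rw [← hsq.w, ← Category.assoc, hsq.lift_fst]
      refine (congrArg (fun q => b ≫ A.π ≫ q) hw.symm).trans ?_
      rw [reassoc_of% h1, e, Category.assoc]
    rw [key x1 e1 (hb x1 e1), ← A.univ.eval_compat b (n ≫ x0) (n ≫ x1) (hb x0 e0) (hb x1 e1)]
    refine (Δ.φ_natural n x0 x1 (e0.symm.trans e1) (n ≫ x0) (n ≫ x1) rfl rfl _
      ⟨pullback.lift bb x0 e0 ≫ v, hl x0 e0⟩ _ ?_).symm
    exact (key x0 e0 (hb x0 e0)).symm
  let tE : pbDiagram (F ⋙ D) (overT D i) xA2 ⟶ (Functor.const (Over i)).obj S' :=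
    pbFst (F ⋙ D) (overT D i) xA2 ≫ (Functor.const (Over i)).map x1
  let k₀ : Over i := Over.mk (𝟙 i)
  have hap := pbCone_fst (F ⋙ D) (overT D i) xA2 c' hq
    (IsPullback.of_hasPullback xA2 (c.π.app i)) k₀
  obtain ⟨k₂, a₂, hk₂⟩ := Scheme.exists_hom_comp_eq_comp_of_locallyOfFiniteType
    (pbDiagram (F ⋙ D) (overT D i) xA2) tE h _
    (pbIsLimit (F ⋙ D) (overT D i) xA2 c' hq (IsPullback.of_hasPullback xA2 (c.π.app i)) hc')
    (i := k₀) (pullback.fst xA2 ((overT D i).app k₀) ≫ r₁)
    (pullback.fst xA2 ((overT D i).app k₀) ≫ r₂) (by simp [tE, pbFst, hr₁]) (by simp [tE, pbFst, hr₂])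
    (by rw [← Category.assoc, ← Category.assoc, hap, heq])
  have e₂ : pullback.fst xA2 ((overT D i).app k₂) ≫ r₁ = pullback.fst xA2 ((overT D i).app k₂) ≫ r₂ := by
    rw [← Category.assoc, ← Category.assoc, pbMap_fst] at hk₂
    exact hk₂
  -- a common stage
  let k := IsCofiltered.min k₁ k₂
  let ψ : D.obj k.left ⟶ D.obj i := D.map k.hom
  have hψ : ψ ≫ w = tS.app k.left := t_nat D tS k.hom
  haveI hk : IsIso (pullback.snd m (pullback.fst yB ψ)) :=
    MorphismProperty.of_isPullback (P := MorphismProperty.isomorphisms Scheme.{u})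
      (pbMap_isPullback (pbDiagram (F ⋙ D) (overT D i) yB) (pbFst (F ⋙ D) (overT D i) yB) m
        (IsCofiltered.minToLeft k₁ k₂)) hk₁
  have ek : pullback.fst xA2 ψ ≫ r₁ = pullback.fst xA2 ψ ≫ r₂ := by
    have e := pbMap_fst (F ⋙ D) (overT D i) xA2 (IsCofiltered.minToRight k₁ k₂)
    show pullback.fst xA2 ((overT D i).app k) ≫ r₁ = pullback.fst xA2 ((overT D i).app k) ≫ r₂
    rw [← e, Category.assoc, e₂, Category.assoc]
  obtain ⟨B, ⟨eB⟩⟩ := exists_sol_of_stage v hv ψ (fun T b z hbz y₀ y₁ h₀ h₁ v₀ hv₀ => by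
    let t : T ⟶ A2 := pullback.lift (pullback.lift b y₀ h₀) y₁ (by rw [pullback.lift_fst_assoc, h₁])
    let tk : T ⟶ pullback xA2 ψ := pullback.lift t z (by
      simp only [t, xA2, xA, pullback.lift_fst_assoc, hbz])
    have ht₀ : t ≫ x0 = y₀ := by simp only [t, x0, pullback.lift_fst_assoc, pullback.lift_snd]
    have ht₁ : t ≫ x1 = y₁ := pullback.lift_snd _ _ _
    have htl : ∀ (x : A2 ⟶ S') (e) (y : T ⟶ S') (e'), t ≫ x = y →
        t ≫ pullback.lift bb x e ≫ v = pullback.lift b y e' ≫ v := fun x e y e' hy => by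
      rw [← Category.assoc]
      refine congrArg (fun m => m ≫ v) ?_
      apply pullback.hom_ext
      · simp only [Category.assoc, pullback.lift_fst]
        simp only [t, bb, pullback.lift_fst_assoc, pullback.lift_fst]
      · simp only [Category.assoc, pullback.lift_snd, hy]
    have := congrArg (fun m => tk ≫ m) ek
    simp only [tk, pullback.lift_fst_assoc] at this
    rw [← htl x1 e1 y₁ h₁ ht₁]
    refine Eq.trans ?_ this
    exact Δ.φ_natural t x0 x1 (e0.symm.trans e1) y₀ y₁ ht₀ ht₁ _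
      ⟨pullback.lift bb x0 e0 ≫ v, hl x0 e0⟩ v₀ (hv₀.trans (htl x0 e0 y₀ h₀ ht₀).symm))
    (fun T e z hez => by
      let eB : T ⟶ pullback (h ≫ g) w := pullback.lift e (z ≫ ψ) (by simpa using hez)
      let eψ : T ⟶ pullback yB ψ := pullback.lift eB z (pullback.lift_snd _ _ _)
      refine ⟨(eψ ≫ inv (pullback.snd m (pullback.fst yB ψ))) ≫ pullback.fst _ _, ⟨?_, ?_⟩,
        fun a' ⟨ha'₁, ha'₂⟩ => ?_⟩
      · rw [show v = m ≫ pullback.fst _ _ from (pullback.lift_fst _ _ _).symm]
        simp only [Category.assoc, pullback.condition_assoc, IsIso.inv_hom_id_assoc, eψ, eB,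
          pullback.lift_fst_assoc, pullback.lift_fst]
      · rw [show pullback.fst (π ≫ w) g ≫ π = m ≫ yB from (pullback.lift_snd _ _ _).symm]
        simp only [Category.assoc, pullback.condition_assoc, IsIso.inv_hom_id_assoc, eψ, eB, yB,
          pullback.lift_fst_assoc, pullback.lift_snd]
      · have ha : a' ≫ m = eψ ≫ pullback.fst yB ψ := by
          rw [pullback.lift_fst]
          apply pullback.hom_ext
          · simp only [m, eB, Category.assoc, pullback.lift_fst, ha'₁]
          · simp only [m, eB, xA, Category.assoc, pullback.lift_snd]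
            exact ha'₂
        have hl' : pullback.lift a' eψ ha ≫ pullback.snd m (pullback.fst yB ψ) = eψ :=
          pullback.lift_snd _ _ _
        rw [← (IsIso.eq_comp_inv _).2 hl', pullback.lift_fst])
  haveI : Etale B.π := by
    rw [show B.π = eB.hom.left ≫ pullback.snd π ψ from (Over.w eB.hom).symm]
    haveI : Etale (pullback.snd π ψ) := MorphismProperty.pullback_snd _ _ hπ
    infer_instance
  refine ⟨k.left, ⟨B.U, B.π, B.univ.pull (𝟙 _) ((Category.id_comp _).trans (congrArg (B.π ≫ ·) hψ)), ?_⟩, ‹_›⟩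
  intro T x z hz v₀
  obtain ⟨b, ⟨hb₁, hb₂⟩, hu⟩ := B.bij x z (by rw [← hz, hψ]) v₀
  refine ⟨b, ⟨hb₁, fun e => ?_⟩, fun b' ⟨h₁, h₂⟩ => hu b' ⟨h₁, fun e => ?_⟩⟩
  · rw [Sec.eval_pull]
    exact (eval_congr' _ (Category.comp_id b) rfl _ (by rw [reassoc_of% hb₁, hψ, hz])).trans (hb₂ _)
  · have e' : b' ≫ B.π ≫ tS.app k.left = x ≫ g := by rw [← hψ, e]
    refine Eq.trans ?_ (h₂ e')
    rw [Sec.eval_pull]
    exact eval_congr' _ (Category.comp_id b').symm rfl _ _

end Groth.Agent.EffDesc25
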