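import Groth.Agent.Lib.EffDesc25.Bridge

/-!
# A descended scheme from data at a stage
-/

set_option autoImplicit false
set_option backward.isDefEq.respectTransparency false
set_option backward.isDefEq.respectTransparency.types false
universe u

open CategoryTheory CategoryTheory.Limits AlgebraicGeometry

namespace Groth.Agent.EffDesc25

open Groth.Agent.SchDesc12

variable {S S' : Scheme.{u}} {g : S' ⟶ S} {D : Desc.SchDDFam (fun _ : PUnit.{u + 1} => g)}
  {W W' P : Scheme.{u}} {w : W ⟶ S} {π : P ⟶ W}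

theorem stage_cond (ψ : W' ⟶ W) {T : Scheme.{u}} {a : T ⟶ pullback π ψ} {x : T ⟶ S'}
    (h : a ≫ pullback.snd π ψ ≫ ψ ≫ w = x ≫ g) : (a ≫ pullback.fst π ψ) ≫ π ≫ w = x ≫ g := by
  rw [← h, Category.assoc, pullback.condition_assoc]

/-- A descended scheme from a model of the scheme and of the universal section. -/
theorem exists_sol_of_stage (v : pullback (π ≫ w) g ⟶ (D.obj PUnit.unit).left)
    (hv : v ≫ (D.obj PUnit.unit).hom = pullback.snd _ _) (ψ : W' ⟶ W)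
    (hcompat : ∀ ⦃T : Scheme.{u}⦄ (b : T ⟶ P) (z : T ⟶ W') (_ : b ≫ π = z ≫ ψ) (x₀ x₁ : T ⟶ S')
      (h₀ : b ≫ π ≫ w = x₀ ≫ g) (h₁ : b ≫ π ≫ w = x₁ ≫ g)
      (v₀ : Desc.Lifts (D.obj PUnit.unit) x₀) (_ : v₀.1 = pullback.lift b x₀ h₀ ≫ v),
      (D.φ (i := PUnit.unit) (j := PUnit.unit) x₀ x₁ (h₀.symm.trans h₁) v₀).1 =
        pullback.lift b x₁ h₁ ≫ v)
    (hbij : ∀ ⦃T : Scheme.{u}⦄ (e : T ⟶ (D.obj PUnit.unit).left) (z : T ⟶ W')
      (_ : e ≫ (D.obj PUnit.unit).hom ≫ g = z ≫ ψ ≫ w),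
      ∃! a : T ⟶ pullback (π ≫ w) g, a ≫ v = e ∧ a ≫ pullback.fst _ _ ≫ π = z ≫ ψ) :
    ∃ A : Sol D (ψ ≫ w), Nonempty (Over.mk A.π ≅ Over.mk (pullback.snd π ψ)) := by
  let univ : Sec D (pullback.snd π ψ ≫ ψ ≫ w) := Sec.mk'
    (fun T i a x h => ⟨pullback.lift (a ≫ pullback.fst π ψ) x (stage_cond ψ h) ≫ v, by
      obtain ⟨⟩ := i
      rw [Category.assoc, hv, pullback.lift_snd]⟩)
    (fun T T' i c a x h h' => by
      refine Eq.trans ?_ (Category.assoc _ _ _)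
      refine congrArg (fun m => m ≫ v) ?_
      apply pullback.hom_ext <;> simp only [Category.assoc, pullback.lift_fst, pullback.lift_snd])
    (fun T i j a x₀ x₁ h₀ h₁ => by
      obtain ⟨⟩ := i
      obtain ⟨⟩ := j
      exact Subtype.ext (hcompat _ (a ≫ pullback.snd π ψ)
        (by simp only [Category.assoc, pullback.condition]) _ _ (stage_cond ψ h₀) (stage_cond ψ h₁) _ rfl))
  have hval : ∀ {T : Scheme.{u}} (a : T ⟶ pullback π ψ) (x : T ⟶ S')
      (h : a ≫ pullback.snd π ψ ≫ ψ ≫ w = x ≫ g),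
      (univ.eval (i := PUnit.unit) a x h).1 =
        pullback.lift (a ≫ pullback.fst π ψ) x (stage_cond ψ h) ≫ v := fun a x h =>
    congrArg Subtype.val (Sec.eval_mk' _ _ _ _ _ _ _)
  refine ⟨{ U := pullback π ψ, π := pullback.snd π ψ, univ := univ, bij := ?_ }, ⟨Iso.refl _⟩⟩
  intro T x z hz v₀
  obtain ⟨a, ⟨ha₁, ha₂⟩, hau⟩ := hbij v₀.1 z (by rw [reassoc_of% v₀.2, ← hz])
  have hax : a ≫ pullback.snd _ _ = x := by rw [← hv, reassoc_of% ha₁, v₀.2]
  let b : T ⟶ pullback π ψ := pullback.lift (a ≫ pullback.fst _ _) z (by rw [Category.assoc, ha₂])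
  refine ⟨b, ⟨pullback.lift_snd _ _ _, fun e => ?_⟩, fun b' ⟨hb'₁, hb'₂⟩ => ?_⟩
  · rw [hval]
    refine Eq.trans ?_ ha₁
    refine congrArg (fun m => m ≫ v) ?_
    apply pullback.hom_ext
    · rw [pullback.lift_fst, pullback.lift_fst]
    · rw [pullback.lift_snd, hax]
  · have e : b' ≫ pullback.snd π ψ ≫ ψ ≫ w = x ≫ g := by rw [reassoc_of% hb'₁, hz]
    have h := hb'₂ e
    rw [hval] at h
    have := hau _ ⟨h, by
      rw [pullback.lift_fst_assoc, Category.assoc, pullback.condition, reassoc_of% hb'₁]⟩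
    apply pullback.hom_ext
    · rw [pullback.lift_fst, ← this, pullback.lift_fst]
    · rw [hb'₁, pullback.lift_snd]

end Groth.Agent.EffDesc25
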